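import Cfsg.Agent.Lib.Lie.G2Cover.Unip

/-!
# Every non-identity element of `G₂(q)` is conjugate to a product `v l u` with `l` covered
-/

set_option autoImplicit false
set_option maxRecDepth 100000
set_option linter.unusedSectionVars false

namespace CfsgLib.Lie.G2Cover

open Matrix Cfsg.Lie CfsgLib.Lie.Chev CfsgLib.Lie.SL2Rel CfsgLib.SpFourCover
open CfsgLib.MinDeg.GTwo (C na nb)

variable {F : Type*} [Field F]

/-- the word of the reflection in the root `9` -/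
def wE : List (Fin chevG2.rank) := [na, nb, na, nb, na]

/-- the monomial element of the root `9` -/
noncomputable def n9 (F : Type*) [Field F] : GL chevG2.Idx F := C.G.nE (ri 9) 1

theorem n9_mem : n9 F ∈ chevG2.group F := C.G.nE_mem_group _ _

theorem nE_monomial (r : Fin chevG2.nroots) : C.G.nE r (1 : F) ∈ chevG2.monomialSubgroup F := by
  rw [C.G.monomial_eq]
  exact C.G.nE_mem_HN r

theorem nPerm_root (l : List (Fin chevG2.rank)) (i : Fin chevG2.rank) (r : Fin chevG2.nroots)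
    (h : CfsgLib.MinDeg.GTwo.img l (chevG2.simple i.val) = r.val) :
    C.G.NPerm (C.G.nE r (1 : F)) (C.G.pw (l ++ i :: l.reverse)) := by
  rw [show r = C.G.pw l (C.G.simp' i) from
    Fin.ext (by rw [CfsgLib.MinDeg.GTwo.pw_img, C.G.simp_val]; exact h.symm)]
  exact CfsgLib.MinDeg.GTwo.nE_perm l i 1 one_ne_zero

theorem n9_perm : C.G.NPerm (n9 F) (C.G.pw wE) :=
  nPerm_root [na, nb] na (ri 9) (by decide +kernel)

theorem mem_H_of_same_perm {n n' : GL chevG2.Idx F} (hn : n ∈ chevG2.monomialSubgroup F)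
    (hn' : n' ∈ chevG2.monomialSubgroup F) {π : Equiv.Perm (Fin chevG2.nroots)} (h : C.G.NPerm n π)
    (h' : C.G.NPerm n' π) : n⁻¹ * n' ∈ chevG2.diagonalSubgroup F := by
  refine C.G.mem_H_of_nPerm_one (mul_mem (inv_mem hn) hn') ?_
  have := Good.NPerm.mul C.G (Good.NPerm.inv C.G h) h'
  rwa [inv_mul_cancel] at this

theorem conj_img {n : GL chevG2.Idx F} {l : List (Fin chevG2.rank)} (hn : C.G.NPerm n (C.G.pw l))
    (r s : Fin chevG2.nroots) (h : CfsgLib.MinDeg.GTwo.img l r.val = s.val) :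
    ∃ c : Fˣ, ∀ t : F, n * xr r t * n⁻¹ = xr s ((c : F) * t) := by
  obtain ⟨c, hc⟩ := hn r
  refine ⟨c, fun t => ?_⟩
  show n * C.G.xu r t * n⁻¹ = _
  rw [hc, show C.G.pw l r = s from Fin.ext (by rw [CfsgLib.MinDeg.GTwo.pw_img]; exact h)]
  rfl

theorem nw_hd : ∀ (l : List (Fin chevG2.rank)) (r : Fin chevG2.nroots) (k : Fˣ),
    C.G.nw l * C.G.hd r k = C.G.hd (C.G.pw l r) k * C.G.nw l
  | [], r, k => by rw [C.G.nw_nil, C.G.pw_nil, one_mul, mul_one]; rfl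
  | i :: l, r, k => by
    rw [C.G.nw_cons, C.G.pw_cons, mul_assoc, nw_hd l r k, ← mul_assoc, C.G.hd_w, Equiv.Perm.mul_apply,
      C.G.sP_apply, mul_assoc]

theorem hd_mem_range (p q : Fˣ) : T p q = C.G.hd (ri 11) p * C.G.hd (ri 10) q := by
  obtain ⟨-, -, -, h10, h11, -, -⟩ := hd_table p
  obtain ⟨-, -, -, k10, -, -, -⟩ := hd_table q
  rw [h11, k10, T_mul, mul_one, one_mul]

theorem n9_T (p q : Fˣ) : n9 F * T p q * (n9 F)⁻¹ = T q⁻¹ p⁻¹ := by
  have hH := mem_H_of_same_perm (F := F) (C.G.nw_mem_monomial wE) (nE_monomial (ri 9))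
    (C.G.nPerm_nw wE) n9_perm
  rw [C.G.diagonal_eq_range] at hH
  obtain ⟨c, hc⟩ := hH
  have e : n9 F = C.G.nw wE * C.G.torθ c := by
    rw [hc]; show _ = _; rw [n9]; group
  have hcomm : C.G.torθ c * T p q = T p q * C.G.torθ c := by
    rw [T, ← map_mul, ← map_mul, mul_comm]
  rw [e, show C.G.nw wE * C.G.torθ c * T p q * (C.G.nw wE * C.G.torθ c)⁻¹ =
    C.G.nw wE * (C.G.torθ c * T p q) * (C.G.torθ c)⁻¹ * (C.G.nw wE)⁻¹ by group, hcomm,
    show C.G.nw wE * (T p q * C.G.torθ c) * (C.G.torθ c)⁻¹ * (C.G.nw wE)⁻¹ =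
    C.G.nw wE * T p q * (C.G.nw wE)⁻¹ by group, mul_inv_eq_iff_eq_mul, hd_mem_range, ← mul_assoc,
    nw_hd, mul_assoc, nw_hd, ← mul_assoc]
  have h1 : C.G.pw wE (ri 11) = ri 1 := Fin.ext (by rw [CfsgLib.MinDeg.GTwo.pw_img]; decide +kernel)
  have h0 : C.G.pw wE (ri 10) = ri 0 := Fin.ext (by rw [CfsgLib.MinDeg.GTwo.pw_img]; decide +kernel)
  rw [h1, h0]
  obtain ⟨-, -, -, -, -, e1, -⟩ := hd_table p
  obtain ⟨-, -, -, -, -, -, e0⟩ := hd_table q
  rw [e1, e0, T_mul, mul_one, one_mul]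

theorem n9_commute {r : Fin chevG2.nroots} (hr : r = ri 6 ∨ r = ri 5) (t : F) :
    Commute (n9 F) (xr r t) := by
  have h : ∀ a : F, Commute (xr (ri 9) a) (xr r t) ∧ Commute (xr (ri 2) a) (xr r t) := fun a => by
    rcases hr with rfl | rfl <;>
      exact ⟨commute_xr _ _ (by decide +kernel) (by decide +kernel) (by decide +kernel) a t,
        commute_xr _ _ (by decide +kernel) (by decide +kernel) (by decide +kernel) a t⟩
  rw [n9, Good.nE, negr_eq 9]
  exact (((h 1).1).mul_left (h _).2).mul_left (h 1).1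

/-- the automorphism of the Levi subgroup induced by the element of the root `9` -/
noncomputable def theta (M : GL (Fin 2) F) : GL (Fin 2) F :=
  M * diag2 (Matrix.GeneralLinearGroup.det M)⁻¹ (Matrix.GeneralLinearGroup.det M)⁻¹

theorem theta_coe (M : GL (Fin 2) F) : (theta M).1 = (M.1.det)⁻¹ • M.1 := by
  rw [theta, Units.val_mul, diag2, mk2_coe]
  ext i j
  fin_cases i <;> fin_cases j <;> simp [Matrix.mul_apply, Fin.sum_univ_two, mul_comm]

theorem theta_mul (a b : GL (Fin 2) F) : theta (a * b) = theta a * theta b := by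
  refine Units.ext ?_
  rw [Units.val_mul, theta_coe, theta_coe, theta_coe, Units.val_mul, Matrix.det_mul,
    Matrix.smul_mul, Matrix.mul_smul, smul_smul, _root_.mul_inv_rev]
  congr 1
  ring

theorem n9_gl (M : GL (Fin 2) F) : n9 F * gl M * (n9 F)⁻¹ = gl (theta M) := by
  refine gl_induction (P := fun M => n9 F * gl M * (n9 F)⁻¹ = gl (theta M)) ?_ ?_ ?_ ?_ M
  · intro a b ha hb
    rw [theta_mul, map_mul, map_mul, ← ha, ← hb]
    group
  · intro e
    have : theta (up2 e) = up2 e := Units.ext (by rw [theta_coe]; simp [up2, mk2_coe, Matrix.det_fin_two])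
    rw [this, gl_up2, (n9_commute (Or.inl rfl) e).eq, mul_inv_cancel_right]
  · intro e
    have : theta (Matrix.SpecialLinearGroup.toGL (Fam.lower e)) =
        Matrix.SpecialLinearGroup.toGL (Fam.lower e) := Units.ext (by
      rw [theta_coe]; simp [lower_coe, Matrix.det_fin_two])
    rw [this, gl_lower, (n9_commute (Or.inr rfl) e).eq, mul_inv_cancel_right]
  · intro p q
    have : theta (diag2 p q) = diag2 q⁻¹ p⁻¹ := Units.ext (by
      rw [theta_coe]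
      have := p.ne_zero; have := q.ne_zero
      ext i j
      fin_cases i <;> fin_cases j <;> simp [diag2, mk2_coe, Matrix.det_fin_two] <;> field_simp)
    rw [this, gl_diag2, gl_diag2, n9_T]

/-- the opposite unipotent radical -/
noncomputable def VN (F : Type*) [Field F] : Subgroup (GL chevG2.Idx F) :=
  (UP F).map (MulAut.conj (n9 F)).toMonoidHom

theorem mem_VN_root {r s : Fin chevG2.nroots} (h : CfsgLib.MinDeg.GTwo.img wE r.val = s.val)
    (hr : ∀ t : F, xr r t ∈ UP F) (t : F) : xr s t ∈ VN F := by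
  obtain ⟨c, hc⟩ := conj_img (F := F) n9_perm r s h
  refine ⟨xr r (((c⁻¹ : Fˣ) : F) * t), hr _, ?_⟩
  show n9 F * _ * (n9 F)⁻¹ = _
  rw [hc, ← mul_assoc, Units.mul_inv, one_mul]

theorem x4_mem_VN (t : F) : xr (ri 4) t ∈ VN F := mem_VN_root (r := ri 8) (by decide +kernel) x8_mem_UP t
theorem x2_mem_VN (t : F) : xr (ri 2) t ∈ VN F := mem_VN_root (r := ri 9) (by decide +kernel) x9_mem_UP t
theorem x1_mem_VN (t : F) : xr (ri 1) t ∈ VN F := mem_VN_root (r := ri 11) (by decide +kernel) x11_mem_UP t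
theorem x0_mem_VN (t : F) : xr (ri 0) t ∈ VN F := mem_VN_root (r := ri 10) (by decide +kernel) x10_mem_UP t

/-- moving a Levi element past the unipotent radical -/
theorem UP_mul_gl {u : GL chevG2.Idx F} (hu : u ∈ UP F) (M : GL (Fin 2) F) :
    ∃ u' ∈ UP F, u * gl M = gl M * u' :=
  ⟨gl M⁻¹ * u * (gl M⁻¹)⁻¹, gl_conj_UP M⁻¹ u hu, by rw [map_inv]; group⟩

/-- the parabolic subgroup -/
noncomputable def PP (F : Type*) [Field F] : Subgroup (GL chevG2.Idx F) where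
  carrier := {g | ∃ M : GL (Fin 2) F, ∃ u ∈ UP F, g = gl M * u}
  mul_mem' := by
    rintro _ _ ⟨M, u, hu, rfl⟩ ⟨N, v, hv, rfl⟩
    obtain ⟨u', hu', e⟩ := UP_mul_gl hu N
    exact ⟨M * N, u' * v, mul_mem hu' hv, by
      rw [map_mul, mul_assoc, ← mul_assoc u, e]; simp only [mul_assoc]⟩
  one_mem' := ⟨1, 1, one_mem _, by simp⟩
  inv_mem' := by
    rintro _ ⟨M, u, hu, rfl⟩
    obtain ⟨u', hu', e⟩ := UP_mul_gl (inv_mem hu) M⁻¹
    exact ⟨M⁻¹, u', hu', by rw [_root_.mul_inv_rev, ← map_inv, e]⟩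

theorem gl_mem_PP (M : GL (Fin 2) F) : gl M ∈ PP F := ⟨M, 1, one_mem _, by rw [mul_one]⟩

theorem UP_mem_PP {u : GL chevG2.Idx F} (hu : u ∈ UP F) : u ∈ PP F :=
  ⟨1, u, hu, by rw [map_one, one_mul]⟩

theorem H_le_PP : chevG2.diagonalSubgroup F ≤ PP F := by
  rw [C.G.diagonal_eq_range]
  rintro _ ⟨c, rfl⟩
  have : C.G.torθ c = T (c nb / c na) (c na * c na / c nb) := by
    rw [T]
    congr 1
    funext i
    rcases CfsgLib.MinDeg.GTwo.node_cases i with rfl | rfl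
    · simp only [tp, if_true]
      apply Units.ext
      push_cast
      field_simp
    · simp only [tp, if_neg (show nb ≠ na by decide +kernel)]
      apply Units.ext
      push_cast
      field_simp
  rw [this, ← gl_diag2]
  exact gl_mem_PP _

theorem borel_le_PP : chevG2.borelSubgroup F ≤ PP F := by
  refine sup_le ?_ H_le_PP
  rw [C.G.posUnipotent_eq_closure, Subgroup.closure_le]
  rintro g ⟨r, t, hr, rfl⟩
  have hc : ∀ r : Fin chevG2.nroots, chevG2.IsPosRoot r.val →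
      r = ri 6 ∨ r = ri 7 ∨ r = ri 8 ∨ r = ri 9 ∨ r = ri 10 ∨ r = ri 11 := by decide +kernel
  show xr r t ∈ PP F
  rcases hc r hr with rfl | rfl | rfl | rfl | rfl | rfl
  · rw [← gl_up2]; exact gl_mem_PP _
  exacts [UP_mem_PP (x7_mem_UP t), UP_mem_PP (x8_mem_UP t), UP_mem_PP (x9_mem_UP t),
    UP_mem_PP (x10_mem_UP t), UP_mem_PP (x11_mem_UP t)]

theorem nU_nb_mem_PP : C.G.nU nb ∈ PP F := by
  rw [← C.G.nE_simp_one, simp_nb, Good.nE, negr_eq 6]
  have h6 : xr (ri 6) (1 : F) ∈ PP F := by rw [← gl_up2]; exact gl_mem_PP _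
  have h5 : ∀ t : F, xr (ri 5) t ∈ PP F := fun t => by rw [← gl_lower]; exact gl_mem_PP _
  exact mul_mem (mul_mem h6 (h5 _)) h6

/-- conjugacy in the group -/
def GConj (g g' : GL chevG2.Idx F) : Prop := ∃ h ∈ chevG2.group F, h * g * h⁻¹ = g'

theorem GConj.trans {a b c : GL chevG2.Idx F} (h : GConj a b) (h' : GConj b c) : GConj a c := by
  obtain ⟨x, hx, rfl⟩ := h
  obtain ⟨y, hy, rfl⟩ := h'
  exact ⟨y * x, mul_mem hy hx, by group⟩

theorem GConj.symm {a b : GL chevG2.Idx F} (h : GConj a b) : GConj b a := by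
  obtain ⟨x, hx, rfl⟩ := h
  exact ⟨x⁻¹, inv_mem hx, by group⟩

theorem UP_le_group : UP F ≤ chevG2.group F := by
  refine (Subgroup.closure_le _).2 ?_
  rintro g (⟨t, rfl⟩ | ⟨t, rfl⟩ | ⟨t, rfl⟩ | ⟨t, rfl⟩ | ⟨t, rfl⟩) <;> exact xr_mem _ _

/-- a covered element of the Levi subgroup between the two unipotent radicals -/
def Hit (P : Par F) (g : GL chevG2.Idx F) : Prop :=
  ∃ v ∈ VN F, ∃ N : GL (Fin 2) F, ∃ u ∈ UP F, P.Covered N.1 ∧ g = v * gl N * u

variable [Fintype F] (P : Par F) (hP : (2 : F) = 0 ∨ P.d = -1)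

include hP

theorem exists_translate_right {N : GL (Fin 2) F} (hN : N.1.det = 1) :
    ∃ e : F, P.Covered (N * up2 e).1 := by
  rcases hP with h2 | hd
  · obtain ⟨e, he⟩ := covered_mul_upM P h2 hN
    exact ⟨e, by rw [Units.val_mul]; exact he⟩
  · refine ⟨0, covered_odd P hd ?_⟩
    rw [Units.val_mul, Matrix.det_mul, hN, one_mul]
    simp [up2, mk2_coe, Matrix.det_fin_two]

omit hP in
theorem det_ne (M : GL (Fin 2) F) : M.1.det ≠ 0 := (Matrix.GeneralLinearGroup.det M).ne_zero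

theorem hit_side (r γ : Fin chevG2.nroots) (l : List (Fin chevG2.rank))
    (hperm : C.G.NPerm (C.G.nE r (1 : F)) (C.G.pw l)) (himg : CfsgLib.MinDeg.GTwo.img l γ.val = 6)
    (hγ : ∀ t : F, xr γ t ∈ UP F) (hr : ∀ t : F, xr r t ∈ UP F)
    (hneg : ∀ t : F, xr (C.G.negr r) t ∈ VN F)
    (hdd : ∀ k : Fˣ, ∃ D : GL (Fin 2) F, C.G.hd r k = gl D ∧ D.1.det = k)
    (M : GL (Fin 2) F) {u : GL chevG2.Idx F} (hu : u ∈ UP F) :
    ∃ g', GConj (C.G.nE r 1 * gl M * u) g' ∧ Hit P g' := by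
  set k : Fˣ := (Matrix.GeneralLinearGroup.det M)⁻¹ with hk
  obtain ⟨D, hD, hDd⟩ := hdd k
  have hN : (D * M).1.det = 1 := by
    rw [Units.val_mul, Matrix.det_mul, hDd, hk]
    exact Units.inv_mul (Matrix.GeneralLinearGroup.det M)
  obtain ⟨e, he⟩ := exists_translate_right P hP hN
  obtain ⟨c, hc⟩ := conj_img (F := F) hperm γ (ri 6) himg
  set n := C.G.nE r (1 : F) with hn
  have h6 : xr (ri 6) (-e) * n = n * xr γ (((c⁻¹ : Fˣ) : F) * -e) := by
    have := hc (((c⁻¹ : Fˣ) : F) * -e)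
    rw [← mul_assoc, Units.mul_inv, one_mul] at this
    rw [← this]; group
  obtain ⟨w1, hw1, e1⟩ := UP_mul_gl (hγ (((c⁻¹ : Fˣ) : F) * -e)) M
  obtain ⟨w2, hw2, e2⟩ := UP_mul_gl (mul_mem hw1 hu) (up2 e)
  obtain ⟨w3, hw3, e3⟩ := UP_mul_gl (hr ((k⁻¹ : Fˣ) : F)) (M * up2 e)
  refine ⟨(xr r (-(k : F)) * xr (ri 6) (-e)) * (n * gl M * u) * (xr r (-(k : F)) * xr (ri 6) (-e))⁻¹,
    ⟨_, mul_mem (xr_mem _ _) (xr_mem _ _), rfl⟩,
    xr (C.G.negr r) (-((k⁻¹ : Fˣ) : F)), hneg _, D * M * up2 e,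
    w3 * w2 * (xr r (-(k : F)))⁻¹, mul_mem (mul_mem hw3 hw2) (inv_mem (hr _)), he, ?_⟩
  have hk' := key_step r k
  rw [hD] at hk'
  calc (xr r (-(k : F)) * xr (ri 6) (-e)) * (n * gl M * u) * (xr r (-(k : F)) * xr (ri 6) (-e))⁻¹
      = xr r (-(k : F)) * (xr (ri 6) (-e) * n) * gl M * u * (xr (ri 6) (-e))⁻¹ *
          (xr r (-(k : F)))⁻¹ := by group
    _ = xr r (-(k : F)) * n * (xr γ (((c⁻¹ : Fˣ) : F) * -e) * gl M) * u * (xr (ri 6) (-e))⁻¹ *
          (xr r (-(k : F)))⁻¹ := by rw [h6]; group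
    _ = xr r (-(k : F)) * n * gl M * (w1 * u * gl (up2 e)) * (xr r (-(k : F)))⁻¹ := by
          rw [e1, xr_inv, neg_neg, gl_up2]; group
    _ = (xr r (-(k : F)) * n) * (gl M * gl (up2 e)) * w2 * (xr r (-(k : F)))⁻¹ := by
          rw [e2]; group
    _ = xr (C.G.negr r) (-((k⁻¹ : Fˣ) : F)) * gl D * (xr r ((k⁻¹ : Fˣ) : F) * gl (M * up2 e)) * w2 *
          (xr r (-(k : F)))⁻¹ := by rw [hk', map_mul]; group
    _ = _ := by rw [e3, map_mul gl (D * M), map_mul gl D, map_mul gl M]; group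

theorem hit_nine_even (h2 : (2 : F) = 0) (M : GL (Fin 2) F) {u : GL chevG2.Idx F} (hu : u ∈ UP F) :
    ∃ g', GConj (n9 F * gl M * u) g' ∧ Hit P g' := by
  haveI : CharP F 2 := CharTwo.of_one_ne_zero_of_two_eq_zero one_ne_zero h2
  have sq : ∀ x : F, ∃ y : F, y * y = x := fun x => by
    obtain ⟨y, hy⟩ := FiniteField.isSquare_of_char_two (ringChar.eq F 2) x
    exact ⟨y, hy.symm⟩
  obtain ⟨k₀, hk₀⟩ := sq (M.1.det)⁻¹
  have hk0 : k₀ ≠ 0 := fun e => inv_ne_zero (det_ne M) (by rw [← hk₀, e, mul_zero])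
  set k : Fˣ := Units.mk0 k₀ hk0 with hk
  have hN : (diag2 k k * M).1.det = 1 := by
    rw [Units.val_mul, Matrix.det_mul]
    have := det_ne M
    simp [diag2, mk2_coe, Matrix.det_fin_two, hk, hk₀] at this ⊢
    exact inv_mul_cancel₀ this
  obtain ⟨E, hE⟩ := covered_upM_mul P h2 hN
  obtain ⟨s, hs⟩ := sq (E * k₀)
  obtain ⟨c, hc⟩ := conj_img (F := F) n9_perm (ri 4) (ri 8) (by decide +kernel)
  have h8 : xr (ri 8) ((c : F) * s) * n9 F = n9 F * xr (ri 4) s := by rw [← hc s]; group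
  -- the root element `9` past the negative short root
  have hterms := conj_terms (ri 4) (ri 9) (by decide +kernel) (by decide +kernel)
    (L := [(8, -2, 1, 1), (6, 3, 2, 1), (11, -3, 1, 2)]) (by decide +kernel) (-s) (k₀⁻¹)
  simp only [List.map_cons, List.map_nil, List.prod_cons, List.prod_nil, mul_one,
    xv_eq 8 (by norm_num), xv_eq 6 (by norm_num), xv_eq 11 (by norm_num)] at hterms
  have h6 : ((3 : ℤ) : F) * (-s) ^ 2 * k₀⁻¹ ^ 1 = E := by
    rw [neg_sq, pow_one, show ((3 : ℤ) : F) = 1 by push_cast; linear_combination h2, one_mul, pow_two,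
      hs, mul_inv_cancel_right₀ hk0]
  rw [h6, show xr (ri 6) E = gl (up2 E) from (gl_up2 E).symm] at hterms
  set a8 := xr (ri 9) k₀⁻¹ * xr (ri 8) (((-2 : ℤ) : F) * (-s) ^ 1 * k₀⁻¹ ^ 1)
  set a11 := xr (ri 11) (((-3 : ℤ) : F) * (-s) ^ 1 * k₀⁻¹ ^ 2)
  obtain ⟨w1, hw1, e1⟩ := UP_mul_gl (mul_mem (x9_mem_UP _) (x8_mem_UP _) : a8 ∈ UP F) (up2 E)
  obtain ⟨w2, hw2, e2⟩ := UP_mul_gl (mul_mem hw1 (x11_mem_UP _) : w1 * a11 ∈ UP F) M
  have hT : T k k * xr (ri 4) s = xr (ri 4) ((((k ^ (0 : ℤ) * k ^ (-1 : ℤ)) : Fˣ) : F) * s) * T k k :=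
    T_conj k k (ri 4) (by decide +kernel) s
  set a := xr (ri 9) (-(k : F)) * xr (ri 8) ((c : F) * s)
  refine ⟨a * (n9 F * gl M * u) * a⁻¹, ⟨a, mul_mem (xr_mem _ _) (xr_mem _ _), rfl⟩,
    xr (ri 2) (-((k⁻¹ : Fˣ) : F)) * xr (ri 4) ((((k ^ (0 : ℤ) * k ^ (-1 : ℤ)) : Fˣ) : F) * s),
    mul_mem (x2_mem_VN _) (x4_mem_VN _), diag2 k k * up2 E * M, w2 * u * a⁻¹,
    mul_mem (mul_mem hw2 hu) (inv_mem (mul_mem (x9_mem_UP _) (x8_mem_UP _))), ?_, ?_⟩
  · have : (diag2 k k * up2 E * M).1 = upM E * (diag2 k k * M).1 := by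
      rw [Units.val_mul, Units.val_mul, Units.val_mul, ← Matrix.mul_assoc]
      congr 1
      ext i j
      fin_cases i <;> fin_cases j <;>
        simp [diag2, up2, upM, mk2_coe, Matrix.mul_apply, Fin.sum_univ_two, mul_comm]
    rw [this]
    exact hE
  · have hk' : xr (ri 9) (-(k : F)) * n9 F =
        xr (ri 2) (-((k⁻¹ : Fˣ) : F)) * T k k * xr (ri 9) k₀⁻¹ := by
      have h := key_step (ri 9) k
      rw [negr_eq 9, (hd_table k).2.2.1] at h
      rw [show k₀⁻¹ = ((k⁻¹ : Fˣ) : F) by simp [hk]]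
      exact h
    have hmid : xr (ri 9) k₀⁻¹ * xr (ri 4) s = xr (ri 4) s * (a8 * gl (up2 E) * a11) := by
      calc xr (ri 9) k₀⁻¹ * xr (ri 4) s
          = xr (ri 4) s * (xr (ri 4) (-s) * xr (ri 9) k₀⁻¹ * (xr (ri 4) (-s))⁻¹) := by
            rw [← xr_inv]; group
        _ = _ := by rw [hterms]; simp only [a8, mul_assoc]
    calc a * (n9 F * gl M * u) * a⁻¹
        = xr (ri 9) (-(k : F)) * (xr (ri 8) ((c : F) * s) * n9 F) * gl M * u * a⁻¹ := by
          simp only [a, mul_assoc]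
      _ = (xr (ri 9) (-(k : F)) * n9 F) * xr (ri 4) s * gl M * u * a⁻¹ := by rw [h8]; group
      _ = xr (ri 2) (-((k⁻¹ : Fˣ) : F)) * T k k * (xr (ri 9) k₀⁻¹ * xr (ri 4) s) * gl M * u * a⁻¹ := by
          rw [hk']; group
      _ = xr (ri 2) (-((k⁻¹ : Fˣ) : F)) * (T k k * xr (ri 4) s) * (a8 * gl (up2 E)) * a11 * gl M * u *
          a⁻¹ := by rw [hmid]; group
      _ = xr (ri 2) (-((k⁻¹ : Fˣ) : F)) *
          (xr (ri 4) ((((k ^ (0 : ℤ) * k ^ (-1 : ℤ)) : Fˣ) : F) * s) * gl (diag2 k k)) * gl (up2 E) *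
          (w1 * a11 * gl M) * u * a⁻¹ := by rw [hT, e1, gl_diag2]; group
      _ = _ := by rw [e2, map_mul, map_mul]; group

theorem hit_nine_odd (hd1 : P.d = -1) (M : GL (Fin 2) F) {u : GL chevG2.Idx F} (hu : u ∈ UP F) :
    ∃ g', GConj (C.G.nE (ri 7) 1 * C.G.nE (ri 11) 1 * gl M * u) g' ∧ Hit P g' := by
  set k : Fˣ := (Matrix.GeneralLinearGroup.det M)⁻¹ with hk
  have hN : (diag2 k 1 * M).1.det = 1 := by
    rw [Units.val_mul, Matrix.det_mul]
    have := det_ne M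
    simp [diag2, mk2_coe, Matrix.det_fin_two, hk] at this ⊢
    exact inv_mul_cancel₀ this
  have c11 : Commute (xr (ri 11) (-(k : F))) (C.G.nE (ri 7) (1 : F)) := by
    rw [Good.nE, negr_eq 7]
    have a : ∀ t : F, Commute (xr (ri 11) (-(k : F))) (xr (ri 7) t) := fun t =>
      commute_xr _ _ (by decide +kernel) (by decide +kernel) (by decide +kernel) _ t
    have b : ∀ t : F, Commute (xr (ri 11) (-(k : F))) (xr (ri 4) t) := fun t =>
      commute_xr _ _ (by decide +kernel) (by decide +kernel) (by decide +kernel) _ t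
    exact ((a 1).mul_right (b _)).mul_right (a 1)
  have c70 : ∀ t : F, Commute (xr (ri 7) (1 : F)) (xr (ri 0) t) := fun t =>
    commute_xr _ _ (by decide +kernel) (by decide +kernel) (by decide +kernel) _ t
  have h7 : xr (ri 7) (-(1 : F)) * C.G.nE (ri 7) 1 = xr (ri 4) (-1) * xr (ri 7) 1 := by
    have h := key_step (ri 7) (1 : Fˣ)
    rw [negr_eq 7, map_one, mul_one, inv_one, Units.val_one] at h
    exact h
  have h11 : xr (ri 11) (-(k : F)) * C.G.nE (ri 11) 1 =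
      xr (ri 0) (-((k⁻¹ : Fˣ) : F)) * T k 1 * xr (ri 11) ((k⁻¹ : Fˣ) : F) := by
    have h := key_step (ri 11) k
    rw [negr_eq 11, (hd_table k).2.2.2.2.1] at h
    exact h
  obtain ⟨w0, hw0, e0⟩ := UP_mul_gl (x7_mem_UP (1 : F)) (diag2 k 1)
  obtain ⟨w1, hw1, e1⟩ := UP_mul_gl (mul_mem hw0 (x11_mem_UP ((k⁻¹ : Fˣ) : F))) M
  set a := xr (ri 7) (-(1 : F)) * xr (ri 11) (-(k : F))
  refine ⟨a * (C.G.nE (ri 7) 1 * C.G.nE (ri 11) 1 * gl M * u) * a⁻¹,
    ⟨a, mul_mem (xr_mem _ _) (xr_mem _ _), rfl⟩,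
    xr (ri 4) (-1) * xr (ri 0) (-((k⁻¹ : Fˣ) : F)), mul_mem (x4_mem_VN _) (x0_mem_VN _),
    diag2 k 1 * M, w1 * u * a⁻¹,
    mul_mem (mul_mem hw1 hu) (inv_mem (mul_mem (x7_mem_UP _) (x11_mem_UP _))), covered_odd P hd1 hN, ?_⟩
  calc a * (C.G.nE (ri 7) 1 * C.G.nE (ri 11) 1 * gl M * u) * a⁻¹
      = xr (ri 7) (-(1 : F)) * (xr (ri 11) (-(k : F)) * C.G.nE (ri 7) 1) * C.G.nE (ri 11) 1 *
          gl M * u * a⁻¹ := by simp only [a, mul_assoc]
    _ = (xr (ri 7) (-(1 : F)) * C.G.nE (ri 7) 1) * (xr (ri 11) (-(k : F)) * C.G.nE (ri 11) 1) *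
          gl M * u * a⁻¹ := by rw [c11.eq]; group
    _ = xr (ri 4) (-1) * (xr (ri 7) 1 * xr (ri 0) (-((k⁻¹ : Fˣ) : F))) * T k 1 *
          xr (ri 11) ((k⁻¹ : Fˣ) : F) * gl M * u * a⁻¹ := by rw [h7, h11]; group
    _ = xr (ri 4) (-1) * xr (ri 0) (-((k⁻¹ : Fˣ) : F)) * (xr (ri 7) 1 * gl (diag2 k 1)) *
          xr (ri 11) ((k⁻¹ : Fˣ) : F) * gl M * u * a⁻¹ := by rw [(c70 _).eq, gl_diag2]; group
    _ = xr (ri 4) (-1) * xr (ri 0) (-((k⁻¹ : Fˣ) : F)) * gl (diag2 k 1) *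
          (w0 * xr (ri 11) ((k⁻¹ : Fˣ) : F) * gl M) * u * a⁻¹ := by rw [e0]; group
    _ = _ := by rw [e1, map_mul]; group

theorem hit_word {g : GL chevG2.Idx F} (X : List (Fin chevG2.rank))
    (hX : X = [na] ∨ X = [na, nb, na] ∨ X = wE) (hg : ∃ p ∈ PP F, g = C.G.nw X * p) :
    ∃ g', GConj g g' ∧ Hit P g' := by
  obtain ⟨p, hp, rfl⟩ := hg
  -- replace the word by the monomial element of the root
  have key : ∀ (n : GL chevG2.Idx F), n ∈ chevG2.monomialSubgroup F → C.G.NPerm n (C.G.pw X) →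
      ∃ M : GL (Fin 2) F, ∃ u ∈ UP F, C.G.nw X * p = n * gl M * u := by
    intro n hn hnp
    obtain ⟨M, u, hu, e⟩ := mul_mem (H_le_PP
      (mem_H_of_same_perm hn (C.G.nw_mem_monomial X) hnp (C.G.nPerm_nw X))) hp
    exact ⟨M, u, hu, by rw [mul_assoc n, ← e]; group⟩
  rcases hX with rfl | rfl | rfl
  · obtain ⟨M, u, hu, e⟩ := key (C.G.nE (ri 7) 1) (nE_monomial _) (nPerm_root [] na _ (by decide +kernel))
    rw [e]
    refine hit_side P hP (ri 7) (ri 10) [na] (nPerm_root [] na _ (by decide +kernel)) (by decide +kernel)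
      x10_mem_UP x7_mem_UP (fun t => by rw [negr_eq 7]; exact x4_mem_VN t) (fun k => ?_) M hu
    refine ⟨diag2 k⁻¹ (k * k), by rw [gl_diag2]; exact (hd_table k).2.1, ?_⟩
    have := k.ne_zero
    simp [diag2, mk2_coe, Matrix.det_fin_two]
  · obtain ⟨M, u, hu, e⟩ := key (C.G.nE (ri 10) 1) (nE_monomial _) (nPerm_root [na] nb _ (by decide +kernel))
    rw [e]
    refine hit_side P hP (ri 10) (ri 11) [na, nb, na] (nPerm_root [na] nb _ (by decide +kernel))
      (by decide +kernel) x11_mem_UP x10_mem_UP (fun t => by rw [negr_eq 10]; exact x1_mem_VN t)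
      (fun k => ?_) M hu
    exact ⟨diag2 1 k, by rw [gl_diag2]; exact (hd_table k).2.2.2.1,
      by simp [diag2, mk2_coe, Matrix.det_fin_two]⟩
  · obtain ⟨M, u, hu, e⟩ := key (n9 F) (nE_monomial _) n9_perm
    rw [e]
    rcases hP with h2 | hd1
    · exact hit_nine_even P (Or.inl h2) h2 M hu
    · have hperm : C.G.pw ([] ++ na :: ([] : List _).reverse) *
          C.G.pw ([nb, na] ++ nb :: [nb, na].reverse) = C.G.pw (wE ++ [nb]) := by
        rw [← C.G.pw_append]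
        refine Equiv.ext fun r => Fin.ext ?_
        rw [CfsgLib.MinDeg.GTwo.pw_img, CfsgLib.MinDeg.GTwo.pw_img]
        revert r
        decide +kernel
      set n' := C.G.nE (ri 7) (1 : F) * C.G.nE (ri 11) 1
      have hn' : C.G.NPerm n' (C.G.pw (wE ++ [nb])) := hperm ▸ Good.NPerm.mul C.G
        (nPerm_root [] na _ (by decide +kernel)) (nPerm_root [nb, na] nb _ (by decide +kernel))
      have hn9 : C.G.NPerm (n9 F * C.G.nU nb) (C.G.pw (wE ++ [nb])) := by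
        rw [C.G.pw_append, C.G.pw_single]
        exact Good.NPerm.mul C.G n9_perm (C.G.nPerm_nU nb)
      have hH := mem_H_of_same_perm (mul_mem (nE_monomial _) (nE_monomial _))
        (mul_mem (nE_monomial (ri 9)) (C.G.nU_mem_monomial nb)) hn' hn9
      have hpp : n'⁻¹ * n9 F ∈ PP F := by
        have := mul_mem (H_le_PP hH) (inv_mem (nU_nb_mem_PP (F := F)))
        rwa [mul_assoc, mul_inv_cancel_right] at this
      obtain ⟨M', u', hu', e'⟩ := mul_mem hpp (mul_mem (gl_mem_PP M) (UP_mem_PP hu))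
      have : n9 F * gl M * u = n' * gl M' * u' := by
        rw [mul_assoc n', ← e']; group
      rw [this]
      exact hit_nine_odd P (Or.inr hd1) hd1 M' hu'

omit [Fintype F] hP in
theorem word_split : ∀ l ∈ CfsgLib.MinDeg.GTwo.words,
    ∃ X ∈ ([[], [na], [na, nb, na], wE] : List (List (Fin chevG2.rank))), ∃ pre ∈ ([[], [nb]] : List (List (Fin chevG2.rank))),
      ∃ suf ∈ ([[], [nb]] : List (List (Fin chevG2.rank))), l = pre ++ X ++ suf := by decide +kernel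

theorem exists_hit {g : GL chevG2.Idx F} (hg : g ∈ chevG2.group F) (hnot : g ∉ PP F) :
    ∃ g', GConj g g' ∧ Hit P g' := by
  obtain ⟨b, hb, n, hn, π, hπ, u, hu, rfl⟩ := C.refined_exists hg
  obtain ⟨l, hl⟩ := C.G.exists_nPerm hn
  obtain ⟨l', hl', el⟩ := CfsgLib.MinDeg.GTwo.exists_word (C.G.pw_mem l)
  rw [← el] at hl
  have hh := mem_H_of_same_perm (C.G.nw_mem_monomial l') hn (C.G.nPerm_nw l') hl
  have hu' : u ∈ chevG2.borelSubgroup F := Subgroup.mem_sup_left (C.G.Uinv_le π hu)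
  obtain ⟨X, hX, pre, hpre, suf, hsuf, rfl⟩ := word_split l' hl'
  have hnb : ∀ s ∈ ([[], [nb]] : List (List (Fin chevG2.rank))), C.G.nw s ∈ PP F := by
    intro s hs
    rcases List.mem_cons.1 hs with rfl | hs
    · rw [C.G.nw_nil]; exact one_mem _
    · rw [List.mem_singleton.1 hs, C.G.nw_cons, C.G.nw_nil, mul_one]; exact nU_nb_mem_PP
  have hq : (C.G.nw (pre ++ X ++ suf))⁻¹ * n * u ∈ PP F :=
    mul_mem (H_le_PP hh) (borel_le_PP hu')
  by_cases hX0 : X = []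
  · exfalso
    apply hnot
    have : n * u ∈ PP F := by
      have h2 : C.G.nw (pre ++ X ++ suf) ∈ PP F := by
        rw [hX0, List.append_nil, C.G.nw_append]
        exact mul_mem (hnb _ hpre) (hnb _ hsuf)
      have := mul_mem h2 hq
      rwa [show C.G.nw (pre ++ X ++ suf) * ((C.G.nw (pre ++ X ++ suf))⁻¹ * n * u) = n * u by group] at this
    rw [mul_assoc]
    exact mul_mem (borel_le_PP hb) this
  have hX' : X = [na] ∨ X = [na, nb, na] ∨ X = wE := by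
    simp only [List.mem_cons, List.not_mem_nil, or_false] at hX
    tauto
  set h := (b * C.G.nw pre)⁻¹
  have hmem : h ∈ chevG2.group F :=
    inv_mem (mul_mem (C.G.borel_le_group hb) (C.G.monomial_le_group (C.G.nw_mem_monomial pre)))
  obtain ⟨g', hgg, hit⟩ := hit_word P hP (g := h * (b * n * u) * h⁻¹) X hX'
    ⟨C.G.nw suf * ((C.G.nw (pre ++ X ++ suf))⁻¹ * n * u) * (b * C.G.nw pre),
      mul_mem (mul_mem (hnb _ hsuf) hq) (mul_mem (borel_le_PP hb) (hnb _ hpre)), by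
      simp only [h, C.G.nw_append]; group⟩
  exact ⟨g', (GConj.trans ⟨h, hmem, rfl⟩ hgg), hit⟩

end CfsgLib.Lie.G2Cover
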