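import Cfsg.Agent.Lib.Lie.G2Cover.Cells

/-!
# Every non-identity element of `G₂(q)` is a product of two conjugates of one element of the Levi subgroup
-/

set_option autoImplicit false
set_option maxRecDepth 100000
set_option linter.unusedSectionVars false

namespace CfsgLib.Lie.G2Cover

open Matrix Cfsg.Lie CfsgLib.Lie.Chev CfsgLib.Lie.SL2Rel CfsgLib.SpFourCover
open CfsgLib.MinDeg.GTwo (C na nb)

variable {F : Type*} [Field F] [Fintype F]

theorem conj_mul_left {M : GL (Fin 2) F} (hM : FixFree M.1) {u : GL chevG2.Idx F} (hu : u ∈ UP F) :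
    ∃ w ∈ UP F, w * gl M * w⁻¹ = u * gl M := by
  let f : ↥(UP F) → ↥(UP F) := fun w =>
    ⟨w.1 * (gl M * w.1⁻¹ * (gl M)⁻¹), mul_mem w.2 (gl_conj_UP M _ (inv_mem w.2))⟩
  have hf : Function.Injective f := by
    intro a b h
    have h' : a.1 * (gl M * a.1⁻¹ * (gl M)⁻¹) = b.1 * (gl M * b.1⁻¹ * (gl M)⁻¹) := congrArg Subtype.val h
    have e : gl M * (b.1⁻¹ * a.1) * (gl M)⁻¹ = b.1⁻¹ * a.1 := by
      calc gl M * (b.1⁻¹ * a.1) * (gl M)⁻¹
          = b.1⁻¹ * (b.1 * (gl M * b.1⁻¹ * (gl M)⁻¹)) * (gl M * a.1⁻¹ * (gl M)⁻¹)⁻¹ := by group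
        _ = b.1⁻¹ * a.1 := by rw [← h']; group
    have := eq_one_of_commute hM (mul_mem (inv_mem b.2) a.2) e
    exact Subtype.ext (inv_mul_eq_one.1 this).symm
  obtain ⟨w, hw⟩ := Finite.injective_iff_surjective.1 hf ⟨u, hu⟩
  refine ⟨w.1, w.2, ?_⟩
  have : w.1 * (gl M * w.1⁻¹ * (gl M)⁻¹) = u := congrArg Subtype.val hw
  rw [← this]; group

theorem gconj_left {M : GL (Fin 2) F} (hM : FixFree M.1) {u : GL chevG2.Idx F} (hu : u ∈ UP F) :
    GConj (gl M) (u * gl M) := by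
  obtain ⟨w, hw, e⟩ := conj_mul_left hM hu
  exact ⟨w, UP_le_group hw, e⟩

theorem gconj_right {M : GL (Fin 2) F} (hM : FixFree M.1) {u : GL chevG2.Idx F} (hu : u ∈ UP F) :
    GConj (gl M) (gl M * u) :=
  (gconj_left hM hu).trans ⟨gl M, gl_mem M, by group⟩

theorem theta_inv {M : GL (Fin 2) F} : theta (theta M) = M := by
  refine Units.ext ?_
  rw [theta_coe, theta_coe, Matrix.det_smul, smul_smul, Fintype.card_fin]
  have := det_ne M
  have e : (M.1.det⁻¹ ^ 2 * M.1.det)⁻¹ * M.1.det⁻¹ = 1 := by field_simp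
  rw [e, one_smul]

theorem gconj_opp {M : GL (Fin 2) F} (hM : FixFree (theta M).1) {v : GL chevG2.Idx F} (hv : v ∈ VN F) :
    GConj (gl M) (v * gl M) := by
  obtain ⟨u, hu, rfl⟩ := hv
  obtain ⟨h, hh, e⟩ := gconj_left hM hu
  refine GConj.trans (b := gl (theta M)) ⟨n9 F, n9_mem, n9_gl M⟩ ?_
  refine GConj.trans (b := u * gl (theta M)) ⟨h, hh, e⟩ ⟨n9 F, n9_mem, ?_⟩
  show n9 F * (u * gl (theta M)) * (n9 F)⁻¹ = n9 F * u * (n9 F)⁻¹ * gl M
  have h' := n9_gl (theta M)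
  rw [theta_inv] at h'
  rw [← h']; group

variable (P : Par F)

/-- the chosen element of the Levi subgroup -/
noncomputable def blockA : GL (Fin 2) F := mk2 P.A P.det_A_ne

theorem gconj_sim {X : GL (Fin 2) F} (h : Sim X.1 (blockA P).1) : GConj (gl (blockA P)) (gl X) := by
  obtain ⟨R, hR, e⟩ := h
  refine ⟨gl (mk2 R hR), gl_mem _, ?_⟩
  rw [← map_mul, ← map_inv, ← map_mul]
  congr 1
  rw [mul_inv_eq_iff_eq_mul]
  exact Units.ext (by rw [Units.val_mul, Units.val_mul, mk2_coe]; exact e.symm)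

theorem det_trace_theta (M : GL (Fin 2) F) :
    (theta M).1.det = 1 / M.1.det ∧ (theta M).1.trace = M.1.trace / M.1.det := by
  have := det_ne M
  rw [theta_coe, Matrix.det_smul, Matrix.trace_smul, Fintype.card_fin, smul_eq_mul]
  constructor <;> field_simp

theorem gconj_inv {X : GL (Fin 2) F} (h : Sim X.1 P.A⁻¹) : GConj (gl (blockA P)) (gl X) := by
  refine GConj.trans (b := gl (theta (blockA P))) ⟨n9 F, n9_mem, n9_gl _⟩ ?_
  obtain ⟨hd, ht⟩ := det_trace_theta (blockA P)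
  rw [show (blockA P).1 = P.A from rfl, P.det_A, P.trace_A] at *
  have hns : NS (theta (blockA P)).1 := by
    rw [theta_coe, show (blockA P).1 = P.A from rfl, P.det_A]
    refine Or.inr (Or.inl ?_)
    simpa [Par.A, CfsgLib.SpFourCover.comp] using P.d0
  obtain ⟨R, hR, e⟩ := h.trans (sim_of_eq hns P.ns_inv (by rw [hd, P.det_inv]) (by rw [ht, P.trace_inv])).symm
  refine ⟨gl (mk2 R hR), gl_mem _, ?_⟩
  rw [← map_mul, ← map_inv, ← map_mul]
  congr 1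
  rw [mul_inv_eq_iff_eq_mul]
  exact Units.ext (by rw [Units.val_mul, Units.val_mul, mk2_coe]; exact e.symm)

theorem gconj_factor {X : GL (Fin 2) F} (h : Sim X.1 P.A ∨ Sim X.1 P.A⁻¹) : GConj (gl (blockA P)) (gl X) :=
  h.elim (gconj_sim P) (gconj_inv P)

theorem fixFree_theta {X : GL (Fin 2) F} (h : Sim X.1 P.A) : FixFree (theta X).1 := by
  refine fixFree_of_eq P (Or.inr ?_)
  obtain ⟨R, hR, e⟩ := h
  have hu := isUnit_of_ne hR
  have h1 : X.1.det = P.d := by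
    rw [Sim.eq_conj hR e, det_mul, det_mul, mul_comm, ← mul_assoc, ← det_mul, nonsing_inv_mul R hu,
      det_one, one_mul, P.det_A]
  have h2 : X.1.trace = P.t := by
    rw [Sim.eq_conj hR e, trace_mul_comm, ← Matrix.mul_assoc, nonsing_inv_mul R hu, Matrix.one_mul,
      P.trace_A]
  obtain ⟨hd, ht⟩ := det_trace_theta X
  rw [h1] at hd ht
  rw [h2] at ht
  exact ⟨hd, ht⟩

theorem hit_product {g : GL chevG2.Idx F} (h : Hit P g) :
    ∃ X Y, GConj (gl (blockA P)) X ∧ GConj (gl (blockA P)) Y ∧ g = X * Y := by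
  obtain ⟨v, hv, N, u, hu, ⟨A₁, A₂, hM, h₁, h₂⟩, rfl⟩ := h
  have hd : A₁.det ≠ 0 ∧ A₂.det ≠ 0 := by
    have := det_ne N
    rw [hM, det_mul] at this
    exact ⟨left_ne_zero_of_mul this, right_ne_zero_of_mul this⟩
  have hN : N = mk2 A₁ hd.1 * mk2 A₂ hd.2 := Units.ext hM
  refine ⟨v * gl (mk2 A₁ hd.1), gl (mk2 A₂ hd.2) * u,
    (gconj_factor P (X := mk2 A₁ hd.1) (Or.inl h₁)).trans
      (gconj_opp (fixFree_theta P (X := mk2 A₁ hd.1) h₁) hv),
    (gconj_factor P (X := mk2 A₂ hd.2) h₂).trans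
      (gconj_right (M := mk2 A₂ hd.2) (fixFree_of_sim P h₂) hu), ?_⟩
  rw [hN, map_mul]
  simp only [mul_assoc]

theorem nU_not_mem : C.G.nU na ∉ PP F := by
  rintro ⟨M, u, hu, e⟩
  have hm : C.G.nU na * xr (ri 7) (1 : F) * (C.G.nU na)⁻¹ ∈ UP F := by
    rw [e, show gl M * u * xr (ri 7) (1 : F) * (gl M * u)⁻¹ =
      gl M * (u * xr (ri 7) (1 : F) * u⁻¹) * (gl M)⁻¹ by group]
    exact gl_conj_UP M _ (mul_mem (mul_mem hu (x7_mem_UP 1)) (inv_mem hu))
  have hle : UP F ≤ chevG2.posUnipotent F := by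
    refine (Subgroup.closure_le _).2 ?_
    rintro g (⟨t, rfl⟩ | ⟨t, rfl⟩ | ⟨t, rfl⟩ | ⟨t, rfl⟩ | ⟨t, rfl⟩) <;>
      exact C.G.xu_mem_U (by decide +kernel) t
  have h1 := hle hm
  change C.G.nU na * C.G.xu (ri 7) 1 * (C.G.nU na)⁻¹ ∈ _ at h1
  rw [← simp_na, C.G.nU_xu, mul_inv_cancel_right, C.G.w_simp] at h1
  have h2 := C.G.xu_mem_V ((C.G.isNegRoot_iff_not_pos _).2 (C.G.negr_simp_not_pos na))
    ((C.G.eta na (C.G.simp' na) : F) * 1)
  have h3 := Subgroup.mem_bot.1 (C.G.U_inf_V_eq (K := F) ▸ Subgroup.mem_inf.2 ⟨h1, h2⟩)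
  rw [C.G.xu_eq_one_iff, mul_one] at h3
  rcases C.G.eta_unit na (C.G.simp' na) with a | a <;> rw [a] at h3 <;> simp at h3

theorem exists_conj_not_mem (h3 : 3 ≤ Fintype.card F) {g : ↥(chevG2.group F)} (hg : g ≠ 1) :
    ∃ g' : GL chevG2.Idx F, GConj (g : GL chevG2.Idx F) g' ∧ g' ∉ PP F := by
  by_contra hne
  simp only [not_exists, not_and, not_not] at hne
  haveI := CfsgLib.MinDeg.GTwo.isSimple (K := F) h3
  have hle : Subgroup.normalClosure ({g} : Set ↥(chevG2.group F)) ≤ (PP F).subgroupOf (chevG2.group F) := by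
    rw [Subgroup.normalClosure, Subgroup.closure_le]
    intro x hx
    obtain ⟨a, ha, hc⟩ := Group.mem_conjugatesOfSet_iff.1 hx
    rw [Set.mem_singleton_iff] at ha
    subst ha
    obtain ⟨c, rfl⟩ := isConj_iff.1 hc
    exact hne _ ⟨c, c.2, rfl⟩
  rcases (Subgroup.normalClosure_normal (s := ({g} : Set ↥(chevG2.group F)))).eq_bot_or_eq_top with h | h
  · exact hg (Subgroup.mem_bot.1 (h ▸ Subgroup.subset_normalClosure rfl))
  · rw [h, top_le_iff] at hle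
    have : (⟨C.G.nU na, C.G.nU_mem_group na⟩ : ↥(chevG2.group F)) ∈ (PP F).subgroupOf (chevG2.group F) :=
      hle ▸ Subgroup.mem_top _
    exact nU_not_mem this

theorem cover (h3 : 3 ≤ Fintype.card F) (hP : (2 : F) = 0 ∨ P.d = -1) {g : ↥(chevG2.group F)} (hg : g ≠ 1) :
    ∃ a ∈ chevG2.group F, ∃ b ∈ chevG2.group F,
      (g : GL chevG2.Idx F) = (a * gl (blockA P) * a⁻¹) * (b * gl (blockA P) * b⁻¹) := by
  obtain ⟨g₁, hg₁, hnot⟩ := exists_conj_not_mem h3 hg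
  have hmem : g₁ ∈ chevG2.group F := by
    obtain ⟨h, hh, rfl⟩ := hg₁
    exact mul_mem (mul_mem hh g.2) (inv_mem hh)
  obtain ⟨g₂, hg₂, hit⟩ := exists_hit P hP hmem hnot
  obtain ⟨X, Y, ⟨a, ha, rfl⟩, ⟨b, hb, rfl⟩, e⟩ := hit_product P hit
  obtain ⟨h, hh, eh⟩ := hg₁.trans hg₂
  refine ⟨h⁻¹ * a, mul_mem (inv_mem hh) ha, h⁻¹ * b, mul_mem (inv_mem hh) hb, ?_⟩
  rw [e] at eh
  calc (g : GL chevG2.Idx F) = h⁻¹ * (h * g * h⁻¹) * h := by group
    _ = _ := by rw [eh]; group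

theorem blockA_pow (k : ℕ) : ((blockA P) ^ k).1 = P.A ^ k := by
  rw [Units.val_pow_eq_pow_val]; rfl

end CfsgLib.Lie.G2Cover
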