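import Cfsg.Agent.Lib.MinDeg.G2Rel
import Cfsg.Agent.Lib.Lie.Chev.SL2Root
import Cfsg.Agent.Lib.Lie.Chev.TwoGen
import Cfsg.Agent.Lib.Lie.Chev.Torus
import Cfsg.Agent.Lib.Lie.Chev.Bruhat
import Cfsg.Agent.Lib.Lie.Chev.FieldMap

/-!
# `G₂(q)`: root elements, the torus in the coordinates of the Levi subgroup of the long simple root, and
the homomorphism from `GL₂` onto that Levi subgroup

The Levi subgroup has the roots `6`, `5`; the roots `8`, `7` form its natural module.
-/

set_option autoImplicit false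
set_option maxRecDepth 100000
set_option linter.unusedSectionVars false

namespace CfsgLib.Lie.G2Cover

open Matrix Cfsg.Lie CfsgLib.Lie.Chev CfsgLib.Lie.SL2Rel
open CfsgLib.MinDeg.GTwo (C na nb)

variable {F : Type*} [Field F]

local notation "S2" => Matrix.SpecialLinearGroup (Fin 2) F
local notation "G" => GL chevG2.Idx F

/-- a root index -/
def ri (k : ℕ) (h : k < 12 := by norm_num) : Fin chevG2.nroots := ⟨k, h⟩

/-- root elements -/
noncomputable def xr (r : Fin chevG2.nroots) (t : F) : GL chevG2.Idx F := C.G.xu r t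

/-- root elements indexed by numbers -/
noncomputable def xv (k : ℕ) (t : F) : GL chevG2.Idx F :=
  if h : k < chevG2.nroots then C.G.xu ⟨k, h⟩ t else 1

theorem xv_eq (k : ℕ) (h : k < 12) (t : F) : xv k t = xr (ri k h) t := by
  rw [xv, dif_pos (show k < chevG2.nroots from h)]
  rfl

theorem xr_mem (r : Fin chevG2.nroots) (t : F) : xr r t ∈ chevG2.group F := C.G.xu_mem _ _

theorem xr_add (r : Fin chevG2.nroots) (s t : F) : xr r (s + t) = xr r s * xr r t := C.G.xu_add r s t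

theorem xr_zero (r : Fin chevG2.nroots) : xr r (0 : F) = 1 := C.G.xu_zero r

theorem xr_inv (r : Fin chevG2.nroots) (t : F) : (xr r t)⁻¹ = xr r (-t) := C.G.xu_inv r t

theorem xr_injective (r : Fin chevG2.nroots) : Function.Injective (xr (F := F) r) := C.G.xu_injective r

theorem negr_ri : ∀ r : Fin chevG2.nroots, (C.G.negr r).val = 11 - r.val := by
  intro r
  rw [C.G.negr_val]
  revert r
  decide +kernel

theorem negr_eq (k : ℕ) (h : k < 12) : C.G.negr (ri k h) = ri (11 - k) (by omega) :=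
  Fin.ext (negr_ri _)

/-- the commutator formula, as a conjugation -/
theorem conj_terms (r s : Fin chevG2.nroots) (hsr : s ≠ r) (hsn : s.val ≠ 11 - r.val)
    {L : List (ℕ × ℤ × ℕ × ℕ)} (hL : chevG2.commTerms r.val s.val = L) (t u : F) :
    xr r t * xr s u * (xr r t)⁻¹ =
      xr s u * (L.map fun c => xv c.1 ((c.2.1 : F) * t ^ c.2.2.1 * u ^ c.2.2.2)).prod := by
  have h := C.commAt r s hsr (fun e => hsn (by rw [e]; exact negr_ri r)) (-t) u
  unfold CommAt at h
  have e : ((L.map fun c => xv c.1 ((c.2.1 : F) * t ^ c.2.2.1 * u ^ c.2.2.2)).prod :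
      Matrix chevG2.Idx chevG2.Idx F) = wordR F chevG2 (cwR chevG2 r.val s.val (-t) u) := by
    rw [wordR, cwR, hL, ← Units.coeHom_apply, map_list_prod, List.map_map, List.map_map]
    congr 1
    refine List.map_congr_left fun c _ => ?_
    simp only [Function.comp_apply, Units.coeHom_apply, xv, xN, neg_neg]
    split_ifs <;> simp [Good.coe_xu]
  rw [mul_inv_eq_iff_eq_mul]
  refine Units.ext ?_
  have hX : xg F r t * xg F r (-t) = 1 := (C.G.xu r t).val_inv
  have hY : xg F r (-t) * xg F r t = 1 := (C.G.xu r t).inv_val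
  show xg F r t * xg F s u = xg F s u * _ * xg F r t
  rw [e]
  calc xg F r t * xg F s u = xg F r t * (xg F s u * (xg F r (-t) * xg F r t)) := by
        rw [hY, Matrix.mul_one]
    _ = xg F r t * (xg F s u * xg F r (-t)) * xg F r t := by simp only [Matrix.mul_assoc]
    _ = (xg F r t * xg F r (-t)) * xg F s u * wordR F chevG2 (cwR chevG2 r.val s.val (-t) u) *
          xg F r t := by rw [h]; simp only [Matrix.mul_assoc]
    _ = _ := by rw [hX, Matrix.one_mul]

/-- commuting root elements -/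
theorem commute_xr (r s : Fin chevG2.nroots) (hsr : s ≠ r) (hsn : s.val ≠ 11 - r.val)
    (hL : chevG2.commTerms r.val s.val = []) (t u : F) : Commute (xr r t) (xr s u) := by
  have h := conj_terms r s hsr hsn hL t u
  rw [List.map_nil, List.prod_nil, mul_one, mul_inv_eq_iff_eq_mul] at h
  exact h

/-! ### The torus -/

/-- parameters of the torus element with values `p`, `q` on the roots `8`, `7` -/
def tp (p q : Fˣ) : Fin chevG2.rank → Fˣ := fun i => if i = na then p * q else p * p * q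

/-- the torus element with values `p`, `q` on the roots `8`, `7` -/
noncomputable def T (p q : Fˣ) : GL chevG2.Idx F := C.G.torθ (tp p q)

theorem T_mul (p q p' q' : Fˣ) : T p q * T p' q' = T (p * p') (q * q') := by
  rw [T, T, ← map_mul]
  congr 1
  funext i
  simp only [tp, Pi.mul_apply]
  split_ifs <;> ac_rfl

theorem T_one : T (1 : Fˣ) 1 = 1 := by
  have : (tp (1 : Fˣ) 1) = 1 := funext fun i => by simp [tp]
  rw [T, this, map_one]

theorem T_inv (p q : Fˣ) : (T p q)⁻¹ = T p⁻¹ q⁻¹ := by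
  rw [inv_eq_iff_mul_eq_one, T_mul, mul_inv_cancel, mul_inv_cancel, T_one]

theorem T_mem_H (p q : Fˣ) : T p q ∈ chevG2.diagonalSubgroup F := by
  rw [C.G.diagonal_eq_range]
  exact ⟨_, rfl⟩

theorem T_mem (p q : Fˣ) : T p q ∈ chevG2.group F := C.G.diagonal_le_group (T_mem_H p q)

theorem nodes_prod (f : Fin chevG2.rank → Fˣ) : ∏ i, f i = f na * f nb := by
  have hu : (Finset.univ : Finset (Fin chevG2.rank)) = {na, nb} := by decide +kernel
  rw [hu, Finset.prod_insert (by simp [show na ≠ nb by decide +kernel]), Finset.prod_singleton]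

theorem T_conj (p q : Fˣ) (r : Fin chevG2.nroots) {m n : ℤ}
    (h : cart chevG2 na r + 2 * cart chevG2 nb r = m ∧ cart chevG2 na r + cart chevG2 nb r = n) (t : F) :
    T p q * xr r t = xr r (((p ^ m * q ^ n : Fˣ) : F) * t) * T p q := by
  obtain ⟨rfl, rfl⟩ := h
  rw [← mul_inv_eq_iff_eq_mul]
  show C.G.torθ (tp p q) * C.G.xu r t * (C.G.torθ (tp p q))⁻¹ = _
  rw [C.G.torθ_conj_xu, nodes_prod]
  show C.G.xu r _ = C.G.xu r _
  congr 2
  simp only [tp, if_true, if_neg (show nb ≠ na by decide +kernel), mul_zpow, _root_.zpow_add, two_mul]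
  simp only [Units.val_mul]
  ring

/-- the roots in the coordinates `8`, `7` -/
theorem cart_table :
    (cart chevG2 na (ri 6) + 2 * cart chevG2 nb (ri 6) = 1 ∧ cart chevG2 na (ri 6) + cart chevG2 nb (ri 6) = -1) ∧
    (cart chevG2 na (ri 5) + 2 * cart chevG2 nb (ri 5) = -1 ∧ cart chevG2 na (ri 5) + cart chevG2 nb (ri 5) = 1) ∧
    (cart chevG2 na (ri 7) + 2 * cart chevG2 nb (ri 7) = 0 ∧ cart chevG2 na (ri 7) + cart chevG2 nb (ri 7) = 1) ∧
    (cart chevG2 na (ri 8) + 2 * cart chevG2 nb (ri 8) = 1 ∧ cart chevG2 na (ri 8) + cart chevG2 nb (ri 8) = 0) ∧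
    (cart chevG2 na (ri 9) + 2 * cart chevG2 nb (ri 9) = 1 ∧ cart chevG2 na (ri 9) + cart chevG2 nb (ri 9) = 1) ∧
    (cart chevG2 na (ri 10) + 2 * cart chevG2 nb (ri 10) = 1 ∧ cart chevG2 na (ri 10) + cart chevG2 nb (ri 10) = 2) ∧
    (cart chevG2 na (ri 11) + 2 * cart chevG2 nb (ri 11) = 2 ∧ cart chevG2 na (ri 11) + cart chevG2 nb (ri 11) = 1) := by
  decide +kernel

theorem hd_table (k : Fˣ) :
    C.G.hd (ri 6) k = T k k⁻¹ ∧ C.G.hd (ri 7) k = T k⁻¹ (k * k) ∧ C.G.hd (ri 9) k = T k k ∧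
      C.G.hd (ri 10) k = T 1 k ∧ C.G.hd (ri 11) k = T k 1 ∧ C.G.hd (ri 1) k = T 1 k⁻¹ ∧ C.G.hd (ri 0) k = T k⁻¹ 1 := by
  have hc : ∀ (r : Fin chevG2.nroots) (a b : ℤ), (chevG2.coroot.getD r.val #[]).getD na.val 0 = a →
      (chevG2.coroot.getD r.val #[]).getD nb.val 0 = b → ∀ p q : Fˣ, p * q = k ^ a → p * p * q = k ^ b →
      C.G.hd r k = T p q := by
    intro r a b ha hb p q h1 h2
    rw [C.G.hd_eq_torθ, T]
    congr 1
    funext i
    rcases CfsgLib.MinDeg.GTwo.node_cases i with rfl | rfl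
    · rw [ha, tp, if_pos rfl, h1]
    · rw [hb, tp, if_neg (show nb ≠ na by decide +kernel), h2]
  refine ⟨hc _ 0 1 (by decide +kernel) (by decide +kernel) _ _ ?_ ?_,
    hc _ 1 0 (by decide +kernel) (by decide +kernel) _ _ ?_ ?_,
    hc _ 2 3 (by decide +kernel) (by decide +kernel) _ _ ?_ ?_,
    hc _ 1 1 (by decide +kernel) (by decide +kernel) _ _ ?_ ?_,
    hc _ 1 2 (by decide +kernel) (by decide +kernel) _ _ ?_ ?_,
    hc _ (-1) (-1) (by decide +kernel) (by decide +kernel) _ _ ?_ ?_,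
    hc _ (-1) (-2) (by decide +kernel) (by decide +kernel) _ _ ?_ ?_⟩
  all_goals simp [zpow_two, zpow_ofNat, pow_succ, mul_assoc, mul_left_comm, mul_comm]

/-! ### The homomorphisms from `SL₂` and `GL₂` -/

/-- the homomorphism of a root -/
noncomputable def rHom (r : Fin chevG2.nroots) :
    Matrix.SpecialLinearGroup (Fin 2) F →* GL chevG2.Idx F :=
  (C.G.sl2Fam r).hom (C.G.sl2Fam_mult r)

theorem rHom_upper (r : Fin chevG2.nroots) (t : F) : rHom r (Fam.upper t) = xr r t := by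
  rw [rHom, Fam.hom_upper]; rfl

theorem rHom_lower (r : Fin chevG2.nroots) (t : F) : rHom r (Fam.lower t) = xr (C.G.negr r) t := by
  rw [rHom, Fam.hom_lower]; rfl

theorem rHom_mem (r : Fin chevG2.nroots) (g : S2) : rHom r g ∈ chevG2.group F := by
  have h : rHom r g ∈ (rHom (F := F) r).range := ⟨g, rfl⟩
  rw [rHom, Fam.hom_range] at h
  refine (Subgroup.closure_le _).2 ?_ h
  rintro _ (⟨t, rfl⟩ | ⟨t, rfl⟩) <;> exact C.G.xu_mem _ _

theorem rHom_diag (r : Fin chevG2.nroots) (c : Fˣ) (g : S2)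
    (hg : g.1 = !![(c : F), 0; 0, ((c⁻¹ : Fˣ) : F)]) : rHom r g = C.G.hd r c := by
  show (C.G.sl2Fam r).val g = _
  rw [Fam.val_eq_zero _ (a := (c : F)) (b := 0) (by rw [hg]; rfl) (by rw [hg]; rfl) (by rw [hg]; rfl),
    zero_div, Fam.x_zero, mul_one]
  exact C.G.hE_eq r c

/-- the diagonal matrix of determinant one -/
def dS (c : Fˣ) : Matrix.SpecialLinearGroup (Fin 2) F :=
  ⟨!![(c : F), 0; 0, ((c⁻¹ : Fˣ) : F)], by simp [Matrix.det_fin_two]⟩

theorem key_step (r : Fin chevG2.nroots) (k : Fˣ) :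
    xr r (-(k : F)) * C.G.nE r 1 =
      xr (C.G.negr r) (-((k⁻¹ : Fˣ) : F)) * C.G.hd r k * xr r ((k⁻¹ : Fˣ) : F) := by
  have e : (Fam.upper (-(k : F)) * (Fam.upper 1 * Fam.lower (-1) * Fam.upper 1) : S2) =
      Fam.lower (-((k⁻¹ : Fˣ) : F)) * dS k * Fam.upper ((k⁻¹ : Fˣ) : F) := by
    refine Subtype.ext ?_
    simp only [Matrix.SpecialLinearGroup.coe_mul]
    have := k.ne_zero
    ext i j
    fin_cases i <;> fin_cases j <;>
      simp [Fam.upper, Fam.lower, dS, Matrix.mul_apply, Fin.sum_univ_two]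
  have h := congrArg (rHom r) e
  simp only [map_mul, rHom_upper, rHom_lower, rHom_diag r k (dS k) rfl] at h
  rw [← h, Good.nE, inv_one]
  rfl

/-- the diagonal matrix with entries `d`, one -/
def dg (d : F) : Matrix (Fin 2) (Fin 2) F := !![d, 0; 0, 1]

theorem dg_mul (a b : F) : dg a * dg b = dg (a * b) := by
  ext i j; fin_cases i <;> fin_cases j <;> simp [dg]

theorem dg_one : dg (1 : F) = 1 := by
  ext i j; fin_cases i <;> fin_cases j <;> simp [dg]

/-- conjugation by a diagonal matrix -/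
def cd (d : Fˣ) (S : Matrix.SpecialLinearGroup (Fin 2) F) : Matrix.SpecialLinearGroup (Fin 2) F :=
  ⟨dg (d : F) * S.1 * dg ((d⁻¹ : Fˣ) : F), by
    rw [Matrix.det_mul, Matrix.det_mul, S.2, mul_one, ← Matrix.det_mul, dg_mul, Units.mul_inv, dg_one,
      Matrix.det_one]⟩

theorem cd_mul (d : Fˣ) (S S' : S2) : cd d (S * S') = cd d S * cd d S' := by
  refine Subtype.ext ?_
  show dg (d : F) * (S.1 * S'.1) * dg ((d⁻¹ : Fˣ) : F) =
    dg (d : F) * S.1 * dg ((d⁻¹ : Fˣ) : F) * (dg (d : F) * S'.1 * dg ((d⁻¹ : Fˣ) : F))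
  simp only [Matrix.mul_assoc]
  rw [← Matrix.mul_assoc (dg ((d⁻¹ : Fˣ) : F)) (dg (d : F)), dg_mul, Units.inv_mul, dg_one, Matrix.one_mul]

theorem T_rHom (d : Fˣ) (S : S2) : T d 1 * rHom (ri 6) S = rHom (ri 6) (cd d S) * T d 1 := by
  have up : ∀ t, T d 1 * rHom (ri 6) (Fam.upper t) = rHom (ri 6) (cd d (Fam.upper t)) * T d 1 := by
    intro t
    have e := T_conj d 1 (ri 6) cart_table.1 t
    rw [rHom_upper, e, show cd d (Fam.upper t) = Fam.upper ((d : F) * t) from Subtype.ext (by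
      ext i j; fin_cases i <;> fin_cases j <;> simp [cd, dg, Fam.upper]), rHom_upper]
    simp
  have low : ∀ t, T d 1 * rHom (ri 6) (Fam.lower t) = rHom (ri 6) (cd d (Fam.lower t)) * T d 1 := by
    intro t
    have e := T_conj d 1 (ri 5) cart_table.2.1 t
    rw [rHom_lower, negr_eq 6, e, show cd d (Fam.lower t) = Fam.lower (((d⁻¹ : Fˣ) : F) * t) from
      Subtype.ext (by ext i j; fin_cases i <;> fin_cases j <;> simp [cd, dg, Fam.lower, mul_comm]),
      rHom_lower, negr_eq 6]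
    simp
  have hmul : ∀ a b : S2, T d 1 * rHom (ri 6) a = rHom (ri 6) (cd d a) * T d 1 →
      T d 1 * rHom (ri 6) b = rHom (ri 6) (cd d b) * T d 1 →
      T d 1 * rHom (ri 6) (a * b) = rHom (ri 6) (cd d (a * b)) * T d 1 := fun a b ha hb => by
    rw [map_mul, ← mul_assoc, ha, mul_assoc, hb, cd_mul, map_mul, mul_assoc]
  refine Fam.mem_gens (P := fun S => T d 1 * rHom (ri 6) S = rHom (ri 6) (cd d S) * T d 1)
    hmul up ?_ S
  have ew : (Fam.wel : S2) = Fam.lower 1 * Fam.upper (-1) * Fam.lower 1 := by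
    refine Subtype.ext ?_
    rw [Matrix.SpecialLinearGroup.coe_mul, Matrix.SpecialLinearGroup.coe_mul]
    ext i j; fin_cases i <;> fin_cases j <;> simp [Fam.wel, Fam.upper, Fam.lower, Matrix.mul_apply]
  rw [ew]
  exact hmul _ _ (hmul _ _ (low _) (up _)) (low _)

/-- the part of determinant one -/
noncomputable def sPart (M : GL (Fin 2) F) : Matrix.SpecialLinearGroup (Fin 2) F :=
  ⟨M.1 * dg ((((Matrix.GeneralLinearGroup.det M)⁻¹ : Fˣ)) : F), by
    rw [Matrix.det_mul]
    simp [dg, Matrix.det_fin_two]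
    rw [← Matrix.det_fin_two]
    exact mul_inv_cancel₀ ((Matrix.isUnit_iff_isUnit_det _).1 M.isUnit).ne_zero⟩

/-- the homomorphism from `GL₂` onto the Levi subgroup -/
noncomputable def gl : GL (Fin 2) F →* GL chevG2.Idx F :=
  MonoidHom.mk' (fun M => rHom (ri 6) (sPart M) * T (Matrix.GeneralLinearGroup.det M) 1) fun M N => by
    have e : sPart (M * N) = sPart M * cd (Matrix.GeneralLinearGroup.det M) (sPart N) := by
      refine Subtype.ext ?_
      show (M * N).1 * dg _ = M.1 * dg _ * (dg _ * (N.1 * dg _) * dg _)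
      simp only [Matrix.mul_assoc, dg_mul, ← Matrix.mul_assoc (dg _) (dg _), Units.val_mul,
        map_mul, _root_.mul_inv_rev, Units.inv_mul, dg_one, Matrix.one_mul]
    show rHom (ri 6) (sPart (M * N)) * _ = _
    rw [e, map_mul (rHom (ri 6)), map_mul Matrix.GeneralLinearGroup.det,
      ← one_mul (1 : Fˣ), ← T_mul, one_mul, mul_assoc, ← mul_assoc _ (T _ 1) (T _ 1), ← T_rHom]
    simp only [mul_assoc]

theorem gl_apply (M : GL (Fin 2) F) :
    gl M = rHom (ri 6) (sPart M) * T (Matrix.GeneralLinearGroup.det M) 1 := rfl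

theorem gl_mem (M : GL (Fin 2) F) : gl M ∈ chevG2.group F := mul_mem (rHom_mem _ _) (T_mem _ _)

theorem gl_toGL (S : S2) : gl (Matrix.SpecialLinearGroup.toGL S) = rHom (ri 6) S := by
  have hd : Matrix.GeneralLinearGroup.det (Matrix.SpecialLinearGroup.toGL S) = 1 := Units.ext S.2
  rw [gl_apply, hd, T_one, mul_one]
  congr 1
  refine Subtype.ext ?_
  show S.1 * dg _ = S.1
  rw [hd]
  simp [dg_one]

/-- an invertible `2 × 2` matrix -/
noncomputable def mk2 (M : Matrix (Fin 2) (Fin 2) F) (h : M.det ≠ 0) : GL (Fin 2) F :=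
  Matrix.GeneralLinearGroup.mkOfDetNeZero M h

theorem mk2_coe (M : Matrix (Fin 2) (Fin 2) F) (h : M.det ≠ 0) : (mk2 M h).1 = M := rfl

/-- the diagonal element of `GL₂` -/
noncomputable def diag2 (p q : Fˣ) : GL (Fin 2) F :=
  mk2 !![(p : F), 0; 0, (q : F)] (by simp [Matrix.det_fin_two])

theorem gl_diag2 (p q : Fˣ) : gl (diag2 p q) = T p q := by
  have hd : Matrix.GeneralLinearGroup.det (diag2 p q) = p * q := Units.ext (by
    show ((diag2 p q).1).det = _
    simp [diag2, mk2_coe, Matrix.det_fin_two])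
  rw [gl_apply, hd, rHom_diag (ri 6) q⁻¹ _ ?_, (hd_table q⁻¹).1, T_mul]
  · simp [mul_left_comm]
  · show (diag2 p q).1 * dg _ = _
    rw [hd, diag2, mk2_coe]
    ext i j
    fin_cases i <;> fin_cases j <;> simp [dg, Matrix.mul_apply, Fin.sum_univ_two] <;> field_simp

/-- the upper unitriangular element -/
noncomputable def up2 (e : F) : GL (Fin 2) F := mk2 !![1, e; 0, 1] (by simp [Matrix.det_fin_two])

theorem gl_up2 (e : F) : gl (up2 e) = xr (ri 6) e := by
  rw [show up2 e = Matrix.SpecialLinearGroup.toGL (Fam.upper e) from Units.ext rfl, gl_toGL, rHom_upper]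

theorem gl_lower (e : F) :
    gl (Matrix.SpecialLinearGroup.toGL (Fam.lower e)) = xr (ri 5) e := by
  rw [gl_toGL, rHom_lower, negr_eq 6]

theorem gl_xr_six (e : F) : xr (ri 6) e ∈ (gl (F := F)).range := ⟨up2 e, gl_up2 e⟩

theorem gl_T (p q : Fˣ) : T p q ∈ (gl (F := F)).range := ⟨diag2 p q, gl_diag2 p q⟩

/-- induction over `GL₂` by generators -/
theorem gl_induction {P : GL (Fin 2) F → Prop} (hmul : ∀ a b, P a → P b → P (a * b))
    (hu : ∀ e, P (up2 e)) (hl : ∀ e, P (Matrix.SpecialLinearGroup.toGL (Fam.lower e)))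
    (hd : ∀ p q, P (diag2 p q)) (M : GL (Fin 2) F) : P M := by
  have hS : ∀ S : S2, P (Matrix.SpecialLinearGroup.toGL S) := by
    intro S
    refine Fam.mem_gens (P := fun S => P (Matrix.SpecialLinearGroup.toGL S))
      (fun a b ha hb => by rw [map_mul]; exact hmul _ _ ha hb)
      (fun t => by rw [show Matrix.SpecialLinearGroup.toGL (Fam.upper t) = up2 t from Units.ext rfl]; exact hu t)
      ?_ S
    have ew : (Fam.wel : S2) = Fam.lower 1 * Fam.upper (-1) * Fam.lower 1 := by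
      refine Subtype.ext ?_
      rw [Matrix.SpecialLinearGroup.coe_mul, Matrix.SpecialLinearGroup.coe_mul]
      ext i j; fin_cases i <;> fin_cases j <;> simp [Fam.wel, Fam.upper, Fam.lower, Matrix.mul_apply]
    rw [ew, map_mul, map_mul]
    refine hmul _ _ (hmul _ _ (hl _) ?_) (hl _)
    rw [show Matrix.SpecialLinearGroup.toGL (Fam.upper (-1 : F)) = up2 (-1) from Units.ext rfl]
    exact hu _
  have e : M = Matrix.SpecialLinearGroup.toGL (sPart M) * diag2 (Matrix.GeneralLinearGroup.det M) 1 := by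
    refine Units.ext ?_
    show M.1 = M.1 * dg _ * (diag2 _ 1).1
    rw [show (diag2 (Matrix.GeneralLinearGroup.det M) 1).1 = dg ((Matrix.GeneralLinearGroup.det M : Fˣ) : F)
      by ext i j; fin_cases i <;> fin_cases j <;> simp [diag2, mk2_coe, dg]]
    rw [Matrix.mul_assoc, dg_mul, Units.inv_mul, dg_one, Matrix.mul_one]
  rw [e]
  exact hmul _ _ (hS _) (hd _ _)

end CfsgLib.Lie.G2Cover
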