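import Cfsg.Agent.Lib.SpFourCover.Main

/-!
# `2 × 2` matrices of determinant one as products of two conjugates of an irreducible block

The parameters have determinant `-1` when two is invertible, and then every matrix of determinant one is
covered; in characteristic two the exceptions are the transvections, which are removed by multiplying
with a unipotent matrix on either side.
-/

set_option autoImplicit false

namespace CfsgLib.Lie.G2Cover

open Matrix CfsgLib.SpFourCover

variable {F : Type*} [Field F]

/-- upper unitriangular matrix -/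
def upM (e : F) : Matrix (Fin 2) (Fin 2) F := !![1, e; 0, 1]

theorem det_upM (e : F) : (upM e).det = 1 := by simp [upM, det_fin_two]

variable (P : Par F)

/-- the conditions under which the block acts without fixed points on the three levels -/
def FixFree (M : Matrix (Fin 2) (Fin 2) F) : Prop :=
  M.det ≠ 0 ∧ M.det ≠ 1 ∧ (M - 1).det ≠ 0 ∧ (M.det • M - 1).det ≠ 0

theorem fixFree_of_eq {M : Matrix (Fin 2) (Fin 2) F}
    (h : (M.det = P.d ∧ M.trace = P.t) ∨ (M.det = 1 / P.d ∧ M.trace = P.t / P.d)) : FixFree M := by
  have h0 := P.d0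
  have r1 := P.root 1
  have r2 := P.root (1 / P.d)
  have e1 : (M - 1).det = M.det - M.trace + 1 := by
    simp [det_fin_two, trace_fin_two]; ring
  have e2 : (M.det • M - 1).det = M.det * M.det * M.det - M.det * M.trace + 1 := by
    simp [det_fin_two, trace_fin_two]; ring
  refine ⟨?_, ?_, ?_, ?_⟩
  · rcases h with ⟨hd, -⟩ | ⟨hd, -⟩ <;> rw [hd]
    exacts [h0, one_div_ne_zero h0]
  · rcases h with ⟨hd, -⟩ | ⟨hd, -⟩ <;> rw [hd]
    · exact P.d1
    · exact fun e => P.d1 (by field_simp at e; exact e.symm)
  · rw [e1]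
    rcases h with ⟨hd, ht⟩ | ⟨hd, ht⟩ <;> rw [hd, ht] <;> intro e <;> apply r1 <;> field_simp at e ⊢ <;>
      linear_combination e
  · rw [e2]
    rcases h with ⟨hd, ht⟩ | ⟨hd, ht⟩ <;> rw [hd, ht] <;> intro e <;> apply r2 <;> field_simp at e ⊢ <;>
      linear_combination e

theorem fixFree_of_sim {M : Matrix (Fin 2) (Fin 2) F} (h : Sim M P.A ∨ Sim M P.A⁻¹) : FixFree M := by
  refine fixFree_of_eq P ?_
  have key : ∀ B : Matrix (Fin 2) (Fin 2) F, Sim M B → M.det = B.det ∧ M.trace = B.trace := by
    rintro B ⟨R, hR, e⟩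
    have hu := isUnit_of_ne hR
    rw [Sim.eq_conj hR e]
    refine ⟨?_, ?_⟩
    · rw [det_mul, det_mul, mul_comm, ← mul_assoc, ← det_mul, nonsing_inv_mul R hu, det_one, one_mul]
    · rw [trace_mul_comm, ← Matrix.mul_assoc, nonsing_inv_mul R hu, Matrix.one_mul]
  rcases h with h | h
  · exact Or.inl ⟨(key _ h).1.trans P.det_A, (key _ h).2.trans P.trace_A⟩
  · exact Or.inr ⟨(key _ h).1.trans P.det_inv, (key _ h).2.trans P.trace_inv⟩

/-- every matrix of determinant one is covered when the parameter determinant is `-1` -/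
theorem covered_odd (hd1 : P.d = -1) {N : Matrix (Fin 2) (Fin 2) F} (hN : N.det = 1) : P.Covered N := by
  have h20 : (2 : F) ≠ 0 := fun h2 => P.d1 (by rw [hd1]; linear_combination -h2)
  by_cases hns : NS N
  · by_cases ht : N.trace = 2
    · refine P.covered_det_sq hns (by rw [hN, hd1]; ring) ?_
      rw [ht, hd1]
      intro e
      exact mul_ne_zero h20 h20 (by linear_combination e)
    · exact P.covered_det_one hns hN ht
  · simp only [NS, not_or, not_not] at hns
    obtain ⟨e01, e10, e00⟩ := hns
    have hs : N = N 0 0 • (1 : Matrix (Fin 2) (Fin 2) F) := by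
      ext i j; fin_cases i <;> fin_cases j <;> simp [e01, e10, ← e00]
    have hsq : N 0 0 * N 0 0 = 1 := by
      rw [det_fin_two, e01, e10, ← e00, mul_zero, sub_zero] at hN
      exact hN
    rcases mul_self_eq_one_iff.1 hsq with e | e
    · rw [hs, e, one_smul]
      exact P.covered_one
    · refine ⟨P.A, (-1 : F) • P.A⁻¹, ?_, Sim.refl _, Or.inl ?_⟩
      · rw [mul_smul_comm, mul_nonsing_inv _ (isUnit_of_ne P.det_A_ne), hs, e]
      · refine sim_of_eq (Or.inl ?_) P.ns_A ?_ ?_
        · rw [P.inv_A]; simp
        · rw [det_smul, P.det_inv, P.det_A, Fintype.card_fin, hd1]; norm_num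
        · rw [trace_smul, P.trace_inv, P.trace_A, smul_eq_mul, hd1]; ring

theorem covered_of_trace (h2 : (2 : F) = 0) {N : Matrix (Fin 2) (Fin 2) F} (hN : N.det = 1)
    (ht : N.trace ≠ 0) : P.Covered N := by
  refine P.covered_det_one ?_ hN (by rwa [h2])
  by_contra hns
  simp only [NS, not_or, not_not] at hns
  apply ht
  rw [trace_fin_two, hns.2.2, ← two_mul, h2, zero_mul]

/-- characteristic two: some translate on the right is covered -/
theorem covered_mul_upM (h2 : (2 : F) = 0) {N : Matrix (Fin 2) (Fin 2) F} (hN : N.det = 1) :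
    ∃ e : F, P.Covered (N * upM e) := by
  have hd : ∀ e : F, (N * upM e).det = 1 := fun e => by rw [det_mul, hN, det_upM, one_mul]
  have htr : ∀ e : F, (N * upM e).trace = N.trace + e * N 1 0 := fun e => by
    simp [upM, trace_fin_two, Matrix.mul_apply, Fin.sum_univ_two]; ring
  by_cases h10 : N 1 0 = 0
  · have hdet : N 0 0 * N 1 1 = 1 := by rw [det_fin_two, h10, mul_zero, sub_zero] at hN; exact hN
    by_cases h00 : N 0 0 = 1
    · refine ⟨-N 0 1, ?_⟩
      have h11 : N 1 1 = 1 := by rwa [h00, one_mul] at hdet
      have : N * upM (-N 0 1) = 1 := by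
        ext i j
        fin_cases i <;> fin_cases j <;>
          simp [upM, Matrix.mul_apply, Fin.sum_univ_two, h00, h10, h11]
      rw [this]
      exact P.covered_one
    · refine ⟨0, covered_of_trace P h2 (hd 0) ?_⟩
      rw [htr, zero_mul, add_zero, trace_fin_two]
      intro e
      apply h00
      have hs : (N 0 0 - 1) * (N 0 0 - 1) = 0 := by
        linear_combination N 0 0 * e - hdet - N 0 0 * h2
      exact sub_eq_zero.1 (mul_self_eq_zero.1 hs)
  · refine ⟨(1 - N.trace) / N 1 0, covered_of_trace P h2 (hd _) ?_⟩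
    rw [htr, div_mul_cancel₀ _ h10, add_sub_cancel]
    exact one_ne_zero

/-- characteristic two: some translate on the left is covered -/
theorem covered_upM_mul (h2 : (2 : F) = 0) {N : Matrix (Fin 2) (Fin 2) F} (hN : N.det = 1) :
    ∃ e : F, P.Covered (upM e * N) := by
  have hd : ∀ e : F, (upM e * N).det = 1 := fun e => by rw [det_mul, hN, det_upM, one_mul]
  have htr : ∀ e : F, (upM e * N).trace = N.trace + e * N 1 0 := fun e => by
    simp [upM, trace_fin_two, Matrix.vecMul, dotProduct, Fin.sum_univ_two]; ring
  by_cases h10 : N 1 0 = 0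
  · have hdet : N 0 0 * N 1 1 = 1 := by rw [det_fin_two, h10, mul_zero, sub_zero] at hN; exact hN
    by_cases h00 : N 0 0 = 1
    · refine ⟨-N 0 1, ?_⟩
      have h11 : N 1 1 = 1 := by rwa [h00, one_mul] at hdet
      have : upM (-N 0 1) * N = 1 := by
        ext i j
        fin_cases i <;> fin_cases j <;>
          simp [upM, Matrix.mul_apply, Fin.sum_univ_two, h00, h10, h11]
      rw [this]
      exact P.covered_one
    · refine ⟨0, covered_of_trace P h2 (hd 0) ?_⟩
      rw [htr, zero_mul, add_zero, trace_fin_two]
      intro e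
      apply h00
      have hs : (N 0 0 - 1) * (N 0 0 - 1) = 0 := by
        linear_combination N 0 0 * e - hdet - N 0 0 * h2
      exact sub_eq_zero.1 (mul_self_eq_zero.1 hs)
  · refine ⟨(1 - N.trace) / N 1 0, covered_of_trace P h2 (hd _) ?_⟩
    rw [htr, div_mul_cancel₀ _ h10, add_sub_cancel]
    exact one_ne_zero

/-- parameters with determinant `-1` when two is invertible -/
theorem exists_par [Fintype F] (h3 : 3 ≤ Fintype.card F) :
    ∃ P : Par F, (2 : F) = 0 ∨ P.d = -1 := by
  classical
  by_cases h2 : ringChar F = 2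
  · haveI : CharP F 2 := ringChar.of_eq h2
    obtain ⟨P⟩ := Par.exists_par h3
    exact ⟨P, Or.inl CharTwo.two_eq_zero⟩
  · have hodd : Fintype.card F % 2 = 1 := FiniteField.odd_card_of_char_ne_two h2
    have h20 : (2 : F) ≠ 0 := Ring.two_ne_zero h2
    have h4 : (4 : F) ≠ 0 := by
      rw [show (4 : F) = 2 * 2 by norm_num]
      exact mul_ne_zero h20 h20
    obtain ⟨t, ht⟩ : ∃ t : F, ∀ r : F, r * r - t * r + -1 ≠ 0 := by
      by_contra hne
      simp only [not_exists, not_forall, not_not] at hne
      choose f hf using hne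
      have hnz : ∀ t, f t ≠ 0 := fun t h => by simpa [h] using hf t
      have hsurj : Function.Surjective (fun r : F => r - 1 / r) := by
        intro t
        refine ⟨f t, ?_⟩
        have := hnz t
        field_simp
        linear_combination hf t
      have hbij := Finite.injective_iff_surjective.2 hsurj
      have := @hbij 1 (-1) (by simp)
      exact h20 (by linear_combination this)
    have ht0 : t ≠ 0 := fun h => ht 1 (by rw [h]; ring)
    refine ⟨⟨-1, t, neg_ne_zero.2 one_ne_zero, ?_, ht0, ht, fun s => ?_⟩, Or.inr rfl⟩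
    · intro h
      exact h20 (by linear_combination -h)
    · have hD : 1 + t * t / 4 ≠ 0 := by
        intro h
        apply ht (t / 2)
        field_simp at h ⊢
        linear_combination -h
      obtain ⟨x, w, hxw⟩ := FiniteField.exists_root_sum_quadratic
        (f := Polynomial.C (-1) * Polynomial.X ^ 2 + Polynomial.C (-t) * Polynomial.X +
          Polynomial.C (1 : F))
        (g := Polynomial.C (1 + t * t / 4) * Polynomial.X ^ 2 +
          Polynomial.C (-(s + t * t / 2)) * Polynomial.X + Polynomial.C (0 : F))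
        (Polynomial.degree_quadratic (neg_ne_zero.2 one_ne_zero))
        (Polynomial.degree_quadratic hD) hodd
      simp only [Polynomial.eval_add, Polynomial.eval_mul, Polynomial.eval_C, Polynomial.eval_pow,
        Polynomial.eval_X] at hxw
      refine ⟨x - t * w / 2, w, ?_⟩
      field_simp at hxw ⊢
      apply mul_left_cancel₀ h20
      linear_combination hxw

end CfsgLib.Lie.G2Cover
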