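import Cfsg.Agent.Lib.Lie.G2Cover.Roots
import Cfsg.Agent.Lib.Lie.G2Cover.Two

/-!
# The unipotent radical of the parabolic subgroup: action of the Levi subgroup on its three levels, and
fixed-point-free elements of the Levi subgroup
-/

set_option autoImplicit false
set_option maxRecDepth 100000
set_option linter.unusedSectionVars false

namespace CfsgLib.Lie.G2Cover

open Matrix Cfsg.Lie CfsgLib.Lie.Chev CfsgLib.Lie.SL2Rel
open CfsgLib.MinDeg.GTwo (C na nb)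

variable {F : Type*} [Field F]

theorem xr_ne_simp_mem_Uex (i : Fin chevG2.rank) {r : Fin chevG2.nroots} (hr : chevG2.IsPosRoot r.val)
    (hi : r ≠ C.G.simp' i) (t : F) : xr r t ∈ (Uex C.G i : Subgroup (GL chevG2.Idx F)) :=
  Subgroup.subset_closure ⟨r, t, ⟨hr, hi⟩, rfl⟩

theorem simp_na : C.G.simp' na = ri 7 := Fin.ext (by rw [C.G.simp_val]; decide +kernel)

theorem simp_nb : C.G.simp' nb = ri 6 := Fin.ext (by rw [C.G.simp_val]; decide +kernel)

theorem eq_zero_of_mem_Uex (i : Fin chevG2.rank) {t : F}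
    (h : xr (C.G.simp' i) t ∈ (Uex C.G i : Subgroup (GL chevG2.Idx F))) : t = 0 := by
  have h1 := C.G.Uex_le i (C.G.nU_conj_Uex i _ h)
  change C.G.nU i * C.G.xu (C.G.simp' i) t * (C.G.nU i)⁻¹ ∈ _ at h1
  rw [C.G.nU_xu, mul_assoc, mul_inv_cancel, mul_one, C.G.w_simp] at h1
  have h2 := C.G.xu_mem_V ((C.G.isNegRoot_iff_not_pos _).2 (C.G.negr_simp_not_pos i))
    ((C.G.eta i (C.G.simp' i) : F) * t)
  have h3 := Subgroup.mem_bot.1 (C.G.U_inf_V_eq (K := F) ▸ Subgroup.mem_inf.2 ⟨h1, h2⟩)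
  rw [C.G.xu_eq_one_iff] at h3
  rcases mul_eq_zero.1 h3 with e | e
  · rcases C.G.eta_unit i (C.G.simp' i) with a | a <;> rw [a] at e <;> simp at e
  · exact e

/-- the third level -/
noncomputable def u3 (r w : F) : GL chevG2.Idx F := xr (ri 11) r * xr (ri 10) w

/-- the second level -/
noncomputable def U3 (F : Type*) [Field F] : Subgroup (GL chevG2.Idx F) :=
  Subgroup.closure ({g | ∃ t, g = xr (ri 11) t} ∪ {g | ∃ t, g = xr (ri 10) t})

/-- the subgroup of levels two and three -/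
noncomputable def U2 (F : Type*) [Field F] : Subgroup (GL chevG2.Idx F) :=
  Subgroup.closure ({g | ∃ t, g = xr (ri 9) t} ∪ ({g | ∃ t, g = xr (ri 11) t} ∪ {g | ∃ t, g = xr (ri 10) t}))

/-- the unipotent radical -/
noncomputable def UP (F : Type*) [Field F] : Subgroup (GL chevG2.Idx F) :=
  Subgroup.closure ({g | ∃ t, g = xr (ri 8) t} ∪ ({g | ∃ t, g = xr (ri 7) t} ∪
    ({g | ∃ t, g = xr (ri 9) t} ∪ ({g | ∃ t, g = xr (ri 11) t} ∪ {g | ∃ t, g = xr (ri 10) t}))))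

theorem x11_mem_U3 (t : F) : xr (ri 11) t ∈ U3 F := Subgroup.subset_closure (Or.inl ⟨t, rfl⟩)
theorem x10_mem_U3 (t : F) : xr (ri 10) t ∈ U3 F := Subgroup.subset_closure (Or.inr ⟨t, rfl⟩)
theorem u3_mem (r w : F) : u3 r w ∈ U3 F := mul_mem (x11_mem_U3 r) (x10_mem_U3 w)
theorem x9_mem_U2 (t : F) : xr (ri 9) t ∈ U2 F := Subgroup.subset_closure (Or.inl ⟨t, rfl⟩)
theorem x11_mem_U2 (t : F) : xr (ri 11) t ∈ U2 F := Subgroup.subset_closure (Or.inr (Or.inl ⟨t, rfl⟩))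
theorem x10_mem_U2 (t : F) : xr (ri 10) t ∈ U2 F := Subgroup.subset_closure (Or.inr (Or.inr ⟨t, rfl⟩))
theorem x8_mem_UP (t : F) : xr (ri 8) t ∈ UP F := Subgroup.subset_closure (Or.inl ⟨t, rfl⟩)
theorem x7_mem_UP (t : F) : xr (ri 7) t ∈ UP F := Subgroup.subset_closure (Or.inr (Or.inl ⟨t, rfl⟩))
theorem x9_mem_UP (t : F) : xr (ri 9) t ∈ UP F :=
  Subgroup.subset_closure (Or.inr (Or.inr (Or.inl ⟨t, rfl⟩)))
theorem x11_mem_UP (t : F) : xr (ri 11) t ∈ UP F :=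
  Subgroup.subset_closure (Or.inr (Or.inr (Or.inr (Or.inl ⟨t, rfl⟩))))
theorem x10_mem_UP (t : F) : xr (ri 10) t ∈ UP F :=
  Subgroup.subset_closure (Or.inr (Or.inr (Or.inr (Or.inr ⟨t, rfl⟩))))

theorem U2_le_UP : U2 F ≤ UP F := by
  refine (Subgroup.closure_le _).2 ?_
  rintro g (⟨t, rfl⟩ | ⟨t, rfl⟩ | ⟨t, rfl⟩)
  exacts [x9_mem_UP t, x11_mem_UP t, x10_mem_UP t]

theorem U3_le_U2 : U3 F ≤ U2 F := by
  refine (Subgroup.closure_le _).2 ?_
  rintro g (⟨t, rfl⟩ | ⟨t, rfl⟩)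
  exacts [x11_mem_U2 t, x10_mem_U2 t]

theorem comm_11_10 (t u : F) : Commute (xr (ri 11) t) (xr (ri 10) u) :=
  commute_xr _ _ (by decide +kernel) (by decide +kernel) (by decide +kernel) t u

theorem comm_9_11 (t u : F) : Commute (xr (ri 9) t) (xr (ri 11) u) :=
  commute_xr _ _ (by decide +kernel) (by decide +kernel) (by decide +kernel) t u

theorem comm_9_10 (t u : F) : Commute (xr (ri 9) t) (xr (ri 10) u) :=
  commute_xr _ _ (by decide +kernel) (by decide +kernel) (by decide +kernel) t u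

theorem u3_mul (r w r' w' : F) : u3 r w * u3 r' w' = u3 (r + r') (w + w') := by
  simp only [u3, xr_add]
  rw [mul_assoc (xr (ri 11) r), ← mul_assoc (xr (ri 10) w), ← (comm_11_10 r' w).eq]
  simp only [mul_assoc]

theorem mem_U3 {g : GL chevG2.Idx F} (h : g ∈ U3 F) : ∃ r w, g = u3 r w := by
  induction h using Subgroup.closure_induction with
  | mem x hx =>
    rcases hx with ⟨t, rfl⟩ | ⟨t, rfl⟩
    · exact ⟨t, 0, by simp [u3, xr_zero]⟩
    · exact ⟨0, t, by simp [u3, xr_zero]⟩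
  | one => exact ⟨0, 0, by simp [u3, xr_zero]⟩
  | mul a b _ _ ha hb =>
    obtain ⟨r, w, rfl⟩ := ha
    obtain ⟨r', w', rfl⟩ := hb
    exact ⟨_, _, u3_mul r w r' w'⟩
  | inv a _ ha =>
    obtain ⟨r, w, rfl⟩ := ha
    refine ⟨-r, -w, inv_eq_of_mul_eq_one_right ?_⟩
    rw [u3_mul, add_neg_cancel, add_neg_cancel, u3, xr_zero, xr_zero, one_mul]

theorem comm_9_u3 (z r w : F) : Commute (xr (ri 9) z) (u3 r w) :=
  (comm_9_11 z r).mul_right (comm_9_10 z w)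

theorem mem_U2 {g : GL chevG2.Idx F} (h : g ∈ U2 F) : ∃ z, ∃ u ∈ U3 F, g = xr (ri 9) z * u := by
  induction h using Subgroup.closure_induction with
  | mem x hx =>
    rcases hx with ⟨t, rfl⟩ | ⟨t, rfl⟩ | ⟨t, rfl⟩
    · exact ⟨t, 1, one_mem _, by rw [mul_one]⟩
    · exact ⟨0, _, x11_mem_U3 t, by rw [xr_zero, one_mul]⟩
    · exact ⟨0, _, x10_mem_U3 t, by rw [xr_zero, one_mul]⟩
  | one => exact ⟨0, 1, one_mem _, by rw [xr_zero, one_mul]⟩
  | mul a b _ _ ha hb =>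
    obtain ⟨z, u, hu, rfl⟩ := ha
    obtain ⟨z', u', hu', rfl⟩ := hb
    refine ⟨z + z', u * u', mul_mem hu hu', ?_⟩
    obtain ⟨r, w, rfl⟩ := mem_U3 hu
    rw [xr_add, mul_assoc (xr (ri 9) z), ← mul_assoc (u3 r w), ← (comm_9_u3 z' r w).eq]
    simp only [mul_assoc]
  | inv a _ ha =>
    obtain ⟨z, u, hu, rfl⟩ := ha
    refine ⟨-z, u⁻¹, inv_mem hu, ?_⟩
    obtain ⟨r, w, rfl⟩ := mem_U3 hu
    rw [← xr_inv, ← _root_.mul_inv_rev, (comm_9_u3 z r w).eq]

theorem conj_gens {H : Subgroup (GL chevG2.Idx F)} {s : Set (GL chevG2.Idx F)} (g : GL chevG2.Idx F)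
    (hs : H = Subgroup.closure s) (h : ∀ x ∈ s, g * x * g⁻¹ ∈ H) : ∀ u ∈ H, g * u * g⁻¹ ∈ H := by
  intro u hu
  have : H ≤ H.comap (MulAut.conj g).toMonoidHom := by
    conv_lhs => rw [hs]
    exact (Subgroup.closure_le _).2 h
  exact this hu

theorem list_two {H : Subgroup (GL chevG2.Idx F)} (r s : Fin chevG2.nroots) (hsr : s ≠ r)
    (hsn : s.val ≠ 11 - r.val) {L : List (ℕ × ℤ × ℕ × ℕ)} (hL : chevG2.commTerms r.val s.val = L)
    {t u : F} (hu : xr s u ∈ H) (h : ∀ c ∈ L, ∀ a : F, xv c.1 a ∈ H) :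
    xr r t * xr s u * (xr r t)⁻¹ ∈ H := by
  rw [conj_terms r s hsr hsn hL t u]
  refine mul_mem hu (list_prod_mem fun x hx => ?_)
  obtain ⟨c, hc, rfl⟩ := List.mem_map.1 hx
  exact h c hc _

/-- the four roots that normalise the second level -/
theorem conj_U2 {r : Fin chevG2.nroots} (hr : r = ri 7 ∨ r = ri 8) (t : F) :
    ∀ u ∈ U2 F, xr r t * u * (xr r t)⁻¹ ∈ U2 F := by
  refine conj_gens _ rfl ?_
  have h11 : ∀ a : F, xv 11 a ∈ U2 F := fun a => xv_eq 11 (by norm_num) a ▸ x11_mem_U2 a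
  have h10 : ∀ a : F, xv 10 a ∈ U2 F := fun a => xv_eq 10 (by norm_num) a ▸ x10_mem_U2 a
  rintro x (⟨u, rfl⟩ | ⟨u, rfl⟩ | ⟨u, rfl⟩) <;> rcases hr with rfl | rfl
  · exact list_two (L := [(10, 3, 1, 1)]) _ _ (by decide +kernel) (by decide +kernel) (by decide +kernel)
      (x9_mem_U2 u) (by simpa using h10)
  · exact list_two (L := [(11, 3, 1, 1)]) _ _ (by decide +kernel) (by decide +kernel) (by decide +kernel)
      (x9_mem_U2 u) (by simpa using h11)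
  · exact list_two (L := []) (ri 7) (ri 11) (by decide +kernel) (by decide +kernel) (by decide +kernel)
      (x11_mem_U2 u) (by simp)
  · exact list_two (L := []) (ri 8) (ri 11) (by decide +kernel) (by decide +kernel) (by decide +kernel)
      (x11_mem_U2 u) (by simp)
  · exact list_two (L := []) (ri 7) (ri 10) (by decide +kernel) (by decide +kernel) (by decide +kernel)
      (x10_mem_U2 u) (by simp)
  · exact list_two (L := []) (ri 8) (ri 10) (by decide +kernel) (by decide +kernel) (by decide +kernel)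
      (x10_mem_U2 u) (by simp)

theorem mem_UP {g : GL chevG2.Idx F} (h : g ∈ UP F) :
    ∃ p q, ∃ u ∈ U2 F, g = xr (ri 8) p * xr (ri 7) q * u := by
  have key : ∀ (p q a : F) (u : GL chevG2.Idx F), u ∈ U2 F →
      (∃ p' q', ∃ u' ∈ U2 F, xr (ri 7) a * (xr (ri 8) p * xr (ri 7) q * u) = xr (ri 8) p' * xr (ri 7) q' * u') := by
    intro p q a u hu
    have h1 : xr (ri 7) a * xr (ri 8) p * (xr (ri 7) a)⁻¹ =
        xr (ri 8) p * (([(9, -2, 1, 1), (10, -3, 2, 1), (11, 3, 1, 2)] : List (ℕ × ℤ × ℕ × ℕ)).map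
          fun c => xv c.1 ((c.2.1 : F) * a ^ c.2.2.1 * p ^ c.2.2.2)).prod :=
      conj_terms _ _ (by decide +kernel) (by decide +kernel) (by decide +kernel) a p
    rw [mul_inv_eq_iff_eq_mul] at h1
    set π := (([(9, -2, 1, 1), (10, -3, 2, 1), (11, 3, 1, 2)] : List (ℕ × ℤ × ℕ × ℕ)).map
          fun c => xv c.1 ((c.2.1 : F) * a ^ c.2.2.1 * p ^ c.2.2.2)).prod with hπ
    have hπm : π ∈ U2 F := by
      rw [hπ]
      simp only [List.map_cons, List.map_nil, List.prod_cons, List.prod_nil, mul_one]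
      rw [xv_eq 9 (by norm_num), xv_eq 10 (by norm_num), xv_eq 11 (by norm_num)]
      exact mul_mem (x9_mem_U2 _) (mul_mem (x10_mem_U2 _) (x11_mem_U2 _))
    refine ⟨p, a + q, (xr (ri 7) (a + q))⁻¹ * π * xr (ri 7) (a + q) * u, mul_mem ?_ hu, ?_⟩
    · have := conj_U2 (r := ri 7) (Or.inl rfl) (-(a + q)) π hπm
      rwa [← xr_inv, inv_inv] at this
    · rw [← mul_assoc, ← mul_assoc, h1, xr_add]
      group
  induction h using Subgroup.closure_induction_left with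
  | one => exact ⟨0, 0, 1, one_mem _, by simp [xr_zero]⟩
  | mul_left x hx y _ ih =>
    obtain ⟨p, q, u, hu, rfl⟩ := ih
    have hU : ∀ v ∈ U2 F, ∃ p' q', ∃ u' ∈ U2 F,
        v * (xr (ri 8) p * xr (ri 7) q * u) = xr (ri 8) p' * xr (ri 7) q' * u' := fun v hv => by
      refine ⟨p, q, (xr (ri 7) q)⁻¹ * ((xr (ri 8) p)⁻¹ * v * xr (ri 8) p) * xr (ri 7) q * u,
        mul_mem ?_ hu, by group⟩
      have e1 := conj_U2 (r := ri 8) (Or.inr rfl) (-p) v hv
      rw [← xr_inv, inv_inv] at e1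
      have e2 := conj_U2 (r := ri 7) (Or.inl rfl) (-q) _ e1
      rwa [← xr_inv, inv_inv] at e2
    rcases hx with ⟨t, rfl⟩ | ⟨t, rfl⟩ | ⟨t, rfl⟩ | ⟨t, rfl⟩ | ⟨t, rfl⟩
    · exact ⟨t + p, q, u, hu, by rw [xr_add]; group⟩
    · exact key p q t u hu
    exacts [hU _ (x9_mem_U2 t), hU _ (x11_mem_U2 t), hU _ (x10_mem_U2 t)]
  | inv_mul_cancel x hx y _ ih =>
    obtain ⟨p, q, u, hu, rfl⟩ := ih
    have hU : ∀ v ∈ U2 F, ∃ p' q', ∃ u' ∈ U2 F,
        v * (xr (ri 8) p * xr (ri 7) q * u) = xr (ri 8) p' * xr (ri 7) q' * u' := fun v hv => by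
      refine ⟨p, q, (xr (ri 7) q)⁻¹ * ((xr (ri 8) p)⁻¹ * v * xr (ri 8) p) * xr (ri 7) q * u,
        mul_mem ?_ hu, by group⟩
      have e1 := conj_U2 (r := ri 8) (Or.inr rfl) (-p) v hv
      rw [← xr_inv, inv_inv] at e1
      have e2 := conj_U2 (r := ri 7) (Or.inl rfl) (-q) _ e1
      rwa [← xr_inv, inv_inv] at e2
    rcases hx with ⟨t, rfl⟩ | ⟨t, rfl⟩ | ⟨t, rfl⟩ | ⟨t, rfl⟩ | ⟨t, rfl⟩
    · exact ⟨-t + p, q, u, hu, by rw [xr_add, ← xr_inv]; group⟩
    · rw [xr_inv]; exact key p q (-t) u hu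
    all_goals rw [xr_inv]
    exacts [hU _ (x9_mem_U2 _), hU _ (x11_mem_U2 _), hU _ (x10_mem_U2 _)]

/-- the action on the three levels -/
def Act (M : GL (Fin 2) F) : Prop :=
  (∀ r w : F, gl M * u3 r w * (gl M)⁻¹ =
      u3 (M.1.det * (M.1 0 0 * r + M.1 0 1 * w)) (M.1.det * (M.1 1 0 * r + M.1 1 1 * w))) ∧
  (∀ z : F, ∃ u ∈ U3 F, gl M * xr (ri 9) z * (gl M)⁻¹ = xr (ri 9) (M.1.det * z) * u) ∧
  (∀ p q : F, ∃ u ∈ U2 F, gl M * (xr (ri 8) p * xr (ri 7) q) * (gl M)⁻¹ =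
      xr (ri 8) (M.1 0 0 * p + M.1 0 1 * q) * xr (ri 7) (M.1 1 0 * p + M.1 1 1 * q) * u)

theorem Act.conj_U3 {M : GL (Fin 2) F} (h : Act M) {u : GL chevG2.Idx F} (hu : u ∈ U3 F) :
    gl M * u * (gl M)⁻¹ ∈ U3 F := by
  obtain ⟨r, w, rfl⟩ := mem_U3 hu
  rw [h.1]
  exact u3_mem _ _

theorem Act.conj_U2 {M : GL (Fin 2) F} (h : Act M) {u : GL chevG2.Idx F} (hu : u ∈ U2 F) :
    gl M * u * (gl M)⁻¹ ∈ U2 F := by
  obtain ⟨z, v, hv, rfl⟩ := mem_U2 hu
  obtain ⟨w, hw, e⟩ := h.2.1 z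
  rw [show gl M * (xr (ri 9) z * v) * (gl M)⁻¹ =
    gl M * xr (ri 9) z * (gl M)⁻¹ * (gl M * v * (gl M)⁻¹) by group, e]
  exact mul_mem (mul_mem (x9_mem_U2 _) (U3_le_U2 hw)) (U3_le_U2 (h.conj_U3 hv))

theorem conj_mul_gl (a b : GL (Fin 2) F) (x : GL chevG2.Idx F) :
    gl (a * b) * x * (gl (a * b))⁻¹ = gl a * (gl b * x * (gl b)⁻¹) * (gl a)⁻¹ := by
  rw [map_mul]; group

theorem Act.mul {a b : GL (Fin 2) F} (ha : Act a) (hb : Act b) : Act (a * b) := by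
  refine ⟨fun r w => ?_, fun z => ?_, fun p q => ?_⟩
  · rw [conj_mul_gl, hb.1, ha.1, Units.val_mul, Matrix.det_mul]
    congr 1 <;> simp [Matrix.mul_apply, Fin.sum_univ_two] <;> ring
  · obtain ⟨u, hu, e⟩ := hb.2.1 z
    obtain ⟨v, hv, e'⟩ := ha.2.1 (b.1.det * z)
    refine ⟨v * (gl a * u * (gl a)⁻¹), mul_mem hv (ha.conj_U3 hu), ?_⟩
    rw [conj_mul_gl, e, show gl a * (xr (ri 9) (b.1.det * z) * u) * (gl a)⁻¹ =
      gl a * xr (ri 9) (b.1.det * z) * (gl a)⁻¹ * (gl a * u * (gl a)⁻¹) by group, e', Units.val_mul,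
      Matrix.det_mul, ← mul_assoc a.1.det, mul_assoc]
  · obtain ⟨u, hu, e⟩ := hb.2.2 p q
    obtain ⟨v, hv, e'⟩ := ha.2.2 (b.1 0 0 * p + b.1 0 1 * q) (b.1 1 0 * p + b.1 1 1 * q)
    refine ⟨v * (gl a * u * (gl a)⁻¹), mul_mem hv (ha.conj_U2 hu), ?_⟩
    rw [conj_mul_gl, e, show ∀ y : GL chevG2.Idx F, gl a * (y * u) * (gl a)⁻¹ =
      gl a * y * (gl a)⁻¹ * (gl a * u * (gl a)⁻¹) from fun y => by group, e', mul_assoc]
    congr 3 <;> simp [Matrix.mul_apply, Fin.sum_univ_two] <;> ring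

theorem act_diag (p q : Fˣ) : Act (diag2 p q) := by
  have h : ∀ (r : Fin chevG2.nroots) {m n : ℤ}
      (_ : cart chevG2 na r + 2 * cart chevG2 nb r = m ∧ cart chevG2 na r + cart chevG2 nb r = n) (t : F),
      gl (diag2 p q) * xr r t * (gl (diag2 p q))⁻¹ = xr r (((p ^ m * q ^ n : Fˣ) : F) * t) := by
    intro r m n hr t
    rw [gl_diag2, mul_inv_eq_iff_eq_mul]
    exact T_conj p q r hr t
  obtain ⟨-, -, h7, h8, h9, h10, h11⟩ := cart_table
  refine ⟨fun r w => ?_, fun z => ⟨1, one_mem _, ?_⟩, fun a b => ⟨1, one_mem _, ?_⟩⟩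
  · rw [u3, show gl (diag2 p q) * (xr (ri 11) r * xr (ri 10) w) * (gl (diag2 p q))⁻¹ =
      gl (diag2 p q) * xr (ri 11) r * (gl (diag2 p q))⁻¹ * (gl (diag2 p q) * xr (ri 10) w * (gl (diag2 p q))⁻¹)
      by group, h _ h11, h _ h10]
    unfold u3
    congr 2 <;> simp [diag2, mk2_coe, Matrix.det_fin_two, zpow_two, zpow_ofNat, pow_two] <;> ring
  · rw [h _ h9, mul_one]
    congr 1
    simp [diag2, mk2_coe, Matrix.det_fin_two]
  · rw [show gl (diag2 p q) * (xr (ri 8) a * xr (ri 7) b) * (gl (diag2 p q))⁻¹ =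
      gl (diag2 p q) * xr (ri 8) a * (gl (diag2 p q))⁻¹ * (gl (diag2 p q) * xr (ri 7) b * (gl (diag2 p q))⁻¹)
      by group, h _ h8, h _ h7, mul_one]
    congr 2 <;> simp [diag2, mk2_coe]

theorem act_up (e : F) : Act (up2 e) := by
  have c11 : ∀ t, Commute (xr (ri 6) e) (xr (ri 11) t) := fun t =>
    commute_xr _ _ (by decide +kernel) (by decide +kernel) (by decide +kernel) e t
  have c9 : ∀ t, Commute (xr (ri 6) e) (xr (ri 9) t) := fun t =>
    commute_xr _ _ (by decide +kernel) (by decide +kernel) (by decide +kernel) e t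
  have c8 : ∀ t, Commute (xr (ri 6) e) (xr (ri 8) t) := fun t =>
    commute_xr _ _ (by decide +kernel) (by decide +kernel) (by decide +kernel) e t
  have fix : ∀ {x : GL chevG2.Idx F}, Commute (xr (ri 6) e) x → xr (ri 6) e * x * (xr (ri 6) e)⁻¹ = x :=
    fun hc => by rw [hc.eq, mul_inv_cancel_right]
  have split : ∀ x y : GL chevG2.Idx F, xr (ri 6) e * (x * y) * (xr (ri 6) e)⁻¹ =
      xr (ri 6) e * x * (xr (ri 6) e)⁻¹ * (xr (ri 6) e * y * (xr (ri 6) e)⁻¹) := fun x y => by group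
  refine ⟨fun r w => ?_, fun z => ⟨1, one_mem _, ?_⟩, fun p q => ?_⟩
  · rw [gl_up2, u3, split, fix (c11 r),
      conj_terms (ri 6) (ri 10) (by decide +kernel) (by decide +kernel) (L := [(11, 1, 1, 1)]) (by decide +kernel)]
    simp only [List.map_cons, List.map_nil, List.prod_cons, List.prod_nil, mul_one, xv_eq 11 (by norm_num)]
    rw [← (comm_11_10 _ w).eq, ← mul_assoc, ← xr_add]
    unfold u3
    congr 2 <;> simp [up2, mk2_coe, Matrix.det_fin_two]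
  · rw [gl_up2, fix (c9 z), mul_one]
    congr 1
    simp [up2, mk2_coe, Matrix.det_fin_two]
  · refine ⟨(xr (ri 7) q)⁻¹ * (xr (ri 8) (e * q))⁻¹ * (xr (ri 7) q) *
      (xr (ri 8) (e * q) * (xr (ri 9) (e * q ^ 2) * (xr (ri 10) (-(e * q ^ 3)) *
        xr (ri 11) (-2 * e ^ 2 * q ^ 3)))), ?_, ?_⟩
    · have hm : xr (ri 9) (e * q ^ 2) * (xr (ri 10) (-(e * q ^ 3)) * xr (ri 11) (-2 * e ^ 2 * q ^ 3)) ∈ U2 F :=
        mul_mem (x9_mem_U2 _) (mul_mem (x10_mem_U2 _) (x11_mem_U2 _))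
      have hc := conj_terms (ri 7) (ri 8) (by decide +kernel) (by decide +kernel)
        (L := [(9, -2, 1, 1), (10, -3, 2, 1), (11, 3, 1, 2)]) (by decide +kernel) (-q) (-(e * q))
      simp only [List.map_cons, List.map_nil, List.prod_cons, List.prod_nil, mul_one,
        xv_eq 9 (by norm_num), xv_eq 10 (by norm_num), xv_eq 11 (by norm_num), ← xr_inv, inv_inv] at hc
      rw [← mul_assoc ((xr (ri 7) q)⁻¹ * _ * _), hc]
      refine mul_mem ?_ hm
      have h1 : ∀ a b c : F, xr (ri 9) a * (xr (ri 10) b * xr (ri 11) c) ∈ U2 F := fun a b c =>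
        mul_mem (x9_mem_U2 _) (mul_mem (x10_mem_U2 _) (x11_mem_U2 _))
      have h2 := conj_U2 (r := ri 8) (Or.inr rfl) (-(e * q)) _
        (h1 ((((-2 : ℤ) : F) * (-q) ^ 1 * (-(e * q)) ^ 1)) (((-3 : ℤ) : F) * (-q) ^ 2 * (-(e * q)) ^ 1)
          (((3 : ℤ) : F) * (-q) ^ 1 * (-(e * q)) ^ 2))
      rwa [← xr_inv, inv_inv] at h2
    · rw [gl_up2, split, fix (c8 p),
        conj_terms (ri 6) (ri 7) (by decide +kernel) (by decide +kernel)
          (L := [(8, 1, 1, 1), (9, 1, 1, 2), (10, -1, 1, 3), (11, -2, 2, 3)]) (by decide +kernel)]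
      simp only [List.map_cons, List.map_nil, List.prod_cons, List.prod_nil, mul_one,
        xv_eq 8 (by norm_num), xv_eq 9 (by norm_num), xv_eq 10 (by norm_num), xv_eq 11 (by norm_num)]
      have e1 : (up2 e).1 0 0 * p + (up2 e).1 0 1 * q = p + e * q := by simp [up2, mk2_coe]
      have e2 : (up2 e).1 1 0 * p + (up2 e).1 1 1 * q = q := by simp [up2, mk2_coe]
      rw [e1, e2, xr_add]
      simp only [Int.cast_one, Int.cast_neg, Int.cast_ofNat, one_mul, pow_one, neg_mul]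
      group

theorem lower_coe (f : F) :
    ((Fam.lower f : Matrix.SpecialLinearGroup (Fin 2) F) : Matrix (Fin 2) (Fin 2) F) = !![1, 0; f, 1] := rfl

theorem act_low (f : F) : Act (Matrix.SpecialLinearGroup.toGL (Fam.lower f)) := by
  have c10 : ∀ t, Commute (xr (ri 5) f) (xr (ri 10) t) := fun t =>
    commute_xr _ _ (by decide +kernel) (by decide +kernel) (by decide +kernel) f t
  have c9 : ∀ t, Commute (xr (ri 5) f) (xr (ri 9) t) := fun t =>
    commute_xr _ _ (by decide +kernel) (by decide +kernel) (by decide +kernel) f t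
  have c7 : ∀ t, Commute (xr (ri 5) f) (xr (ri 7) t) := fun t =>
    commute_xr _ _ (by decide +kernel) (by decide +kernel) (by decide +kernel) f t
  have fix : ∀ {x : GL chevG2.Idx F}, Commute (xr (ri 5) f) x → xr (ri 5) f * x * (xr (ri 5) f)⁻¹ = x :=
    fun hc => by rw [hc.eq, mul_inv_cancel_right]
  have split : ∀ x y : GL chevG2.Idx F, xr (ri 5) f * (x * y) * (xr (ri 5) f)⁻¹ =
      xr (ri 5) f * x * (xr (ri 5) f)⁻¹ * (xr (ri 5) f * y * (xr (ri 5) f)⁻¹) := fun x y => by group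
  refine ⟨fun r w => ?_, fun z => ⟨1, one_mem _, ?_⟩, fun p q => ?_⟩
  · rw [gl_lower, u3, split, fix (c10 w),
      conj_terms (ri 5) (ri 11) (by decide +kernel) (by decide +kernel) (L := [(10, 1, 1, 1)]) (by decide +kernel)]
    simp only [List.map_cons, List.map_nil, List.prod_cons, List.prod_nil, mul_one, xv_eq 10 (by norm_num)]
    rw [mul_assoc, ← xr_add]
    unfold u3
    congr 2 <;> simp [lower_coe]
  · rw [gl_lower, fix (c9 z), mul_one]
    congr 1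
    simp [lower_coe]
  · have hm : ∀ a b c : F, xr (ri 9) a * (xr (ri 11) b * xr (ri 10) c) ∈ U2 F := fun a b c =>
      mul_mem (x9_mem_U2 _) (mul_mem (x11_mem_U2 _) (x10_mem_U2 _))
    refine ⟨(xr (ri 7) q)⁻¹ * (xr (ri 9) (-(f * p ^ 2)) * (xr (ri 11) (f * p ^ 3) *
      xr (ri 10) (2 * f ^ 2 * p ^ 3))) * xr (ri 7) q, ?_, ?_⟩
    · have h2 := conj_U2 (r := ri 7) (Or.inl rfl) (-q) _ (hm (-(f * p ^ 2)) (f * p ^ 3) (2 * f ^ 2 * p ^ 3))
      rwa [← xr_inv, inv_inv] at h2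
    · rw [gl_lower, split, fix (c7 q),
        conj_terms (ri 5) (ri 8) (by decide +kernel) (by decide +kernel)
          (L := [(7, 1, 1, 1), (9, -1, 1, 2), (11, 1, 1, 3), (10, 2, 2, 3)]) (by decide +kernel)]
      simp only [List.map_cons, List.map_nil, List.prod_cons, List.prod_nil, mul_one,
        xv_eq 7 (by norm_num), xv_eq 9 (by norm_num), xv_eq 10 (by norm_num), xv_eq 11 (by norm_num)]
      have e1 : (Matrix.SpecialLinearGroup.toGL (Fam.lower f)).1 0 0 * p +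
          (Matrix.SpecialLinearGroup.toGL (Fam.lower f)).1 0 1 * q = p := by simp [lower_coe]
      have e2 : (Matrix.SpecialLinearGroup.toGL (Fam.lower f)).1 1 0 * p +
          (Matrix.SpecialLinearGroup.toGL (Fam.lower f)).1 1 1 * q = f * p + q := by simp [lower_coe]
      rw [e1, e2, xr_add]
      simp only [Int.cast_one, Int.cast_neg, Int.cast_ofNat, one_mul, pow_one, neg_mul]
      group

theorem act_all (M : GL (Fin 2) F) : Act M :=
  gl_induction (P := Act) (fun _ _ ha hb => ha.mul hb) act_up act_low act_diag M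

theorem gl_conj_UP (M : GL (Fin 2) F) : ∀ u ∈ UP F, gl M * u * (gl M)⁻¹ ∈ UP F := by
  intro u hu
  obtain ⟨p, q, v, hv, rfl⟩ := mem_UP hu
  obtain ⟨w, hw, e⟩ := (act_all M).2.2 p q
  rw [show gl M * (xr (ri 8) p * xr (ri 7) q * v) * (gl M)⁻¹ =
    gl M * (xr (ri 8) p * xr (ri 7) q) * (gl M)⁻¹ * (gl M * v * (gl M)⁻¹) by group, e]
  exact mul_mem (mul_mem (mul_mem (x8_mem_UP _) (x7_mem_UP _)) (U2_le_UP hw))
    (U2_le_UP ((act_all M).conj_U2 hv))

theorem level_one {a b : F} {u : GL chevG2.Idx F} (hu : u ∈ U2 F)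
    (h : xr (ri 8) a = xr (ri 7) b * u) : a = 0 ∧ b = 0 := by
  have hU : ∀ v ∈ U2 F, v ∈ (Uex C.G na : Subgroup (GL chevG2.Idx F)) := by
    intro v hv
    refine (Subgroup.closure_le _).2 ?_ hv
    rintro g (⟨t, rfl⟩ | ⟨t, rfl⟩ | ⟨t, rfl⟩) <;>
      exact xr_ne_simp_mem_Uex na (by decide +kernel) (by rw [simp_na]; decide +kernel) t
  have h8 : xr (ri 8) a ∈ (Uex C.G na : Subgroup (GL chevG2.Idx F)) :=
    xr_ne_simp_mem_Uex na (by decide +kernel) (by rw [simp_na]; decide +kernel) a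
  have hb : b = 0 := by
    refine eq_zero_of_mem_Uex na ?_
    rw [simp_na, show xr (ri 7) b = xr (ri 8) a * u⁻¹ by rw [h, mul_inv_cancel_right]]
    exact mul_mem h8 (inv_mem (hU u hu))
  refine ⟨?_, hb⟩
  rw [hb, xr_zero, one_mul] at h
  -- the Weyl element of the Levi subgroup turns the root `8` into `7`
  set M : GL (Fin 2) F := mk2 !![0, -1; 1, 0] (by simp [Matrix.det_fin_two]) with hM
  obtain ⟨v, hv, e⟩ := (act_all M).2.2 a 0
  rw [xr_zero, mul_one, show M.1 0 0 * a + M.1 0 1 * 0 = 0 by simp [hM, mk2_coe],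
    show M.1 1 0 * a + M.1 1 1 * 0 = a by simp [hM, mk2_coe], xr_zero, one_mul] at e
  have hmem : xr (ri 7) a * v ∈ U2 F := e ▸ (act_all M).conj_U2 (h ▸ hu)
  refine eq_zero_of_mem_Uex na ?_
  rw [simp_na, show xr (ri 7) a = xr (ri 7) a * v * v⁻¹ by group]
  exact hU _ (mul_mem hmem (inv_mem hv))

theorem level_one_eq {p q p' q' : F} {u u' : GL chevG2.Idx F} (hu : u ∈ U2 F) (hu' : u' ∈ U2 F)
    (h : xr (ri 8) p * xr (ri 7) q * u = xr (ri 8) p' * xr (ri 7) q' * u') : p = p' ∧ q = q' := by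
  have e : xr (ri 8) (-p' + p) = xr (ri 7) (q' + -q) * ((xr (ri 7) q) * (u' * u⁻¹) * (xr (ri 7) q)⁻¹) := by
    rw [xr_add, xr_add, ← xr_inv, ← xr_inv,
      show (xr (ri 8) p')⁻¹ * xr (ri 8) p =
        (xr (ri 8) p')⁻¹ * (xr (ri 8) p * xr (ri 7) q * u) * u⁻¹ * (xr (ri 7) q)⁻¹ by group, h]
    group
  obtain ⟨a, b⟩ := level_one (conj_U2 (Or.inl rfl) q _ (mul_mem hu' (inv_mem hu))) e
  exact ⟨by linear_combination a, by linear_combination -b⟩

theorem conj_na (r : Fin chevG2.nroots) (s : Fin chevG2.nroots) (h : C.G.w na r = s) (t : F) :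
    ∃ c : F, c ≠ 0 ∧ C.G.nU na * xr r t * (C.G.nU na)⁻¹ = xr s (c * t) := by
  refine ⟨(C.G.eta na r : F), ?_, ?_⟩
  · rcases C.G.eta_unit na r with e | e <;> rw [e] <;> simp
  · show C.G.nU na * C.G.xu r t * (C.G.nU na)⁻¹ = C.G.xu s _
    rw [C.G.nU_xu, mul_inv_cancel_right, h]

theorem w_na : C.G.w na (ri 11) = ri 11 ∧ C.G.w na (ri 10) = ri 6 ∧ C.G.w na (ri 9) = ri 8 := by
  refine ⟨?_, ?_, ?_⟩ <;> refine Fin.ext ?_ <;> rw [C.G.w_reflect] <;> decide +kernel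

theorem u3_eq_one {r w : F} (h : u3 r w = 1) : r = 0 ∧ w = 0 := by
  have h' := congrArg (fun x => C.G.nU na * x * (C.G.nU na)⁻¹) h
  simp only [mul_one, mul_inv_cancel, u3] at h'
  obtain ⟨c, -, e11⟩ := conj_na (F := F) _ _ w_na.1 r
  obtain ⟨c', hc', e10⟩ := conj_na (F := F) _ _ w_na.2.1 w
  rw [show C.G.nU na * (xr (ri 11) r * xr (ri 10) w) * (C.G.nU na)⁻¹ =
    C.G.nU na * xr (ri 11) r * (C.G.nU na)⁻¹ * (C.G.nU na * xr (ri 10) w * (C.G.nU na)⁻¹) by group,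
    e11, e10] at h'
  have hw : c' * w = 0 := by
    refine eq_zero_of_mem_Uex nb ?_
    rw [simp_nb, eq_inv_of_mul_eq_one_right h']
    exact inv_mem (xr_ne_simp_mem_Uex nb (by decide +kernel) (by rw [simp_nb]; decide +kernel) _)
  have hw0 : w = 0 := (mul_eq_zero.1 hw).resolve_left hc'
  rw [hw0, u3, xr_zero, mul_one] at h
  exact ⟨xr_injective _ (h.trans (xr_zero _).symm), hw0⟩

theorem level_two {z : F} (h : xr (ri 9) z ∈ U3 F) : z = 0 := by
  obtain ⟨r, w, e⟩ := mem_U3 h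
  have h' := congrArg (fun x => C.G.nU na * x * (C.G.nU na)⁻¹) e
  simp only [u3] at h'
  obtain ⟨c0, hc0, e9⟩ := conj_na (F := F) _ _ w_na.2.2 z
  obtain ⟨c, -, e11⟩ := conj_na (F := F) _ _ w_na.1 r
  obtain ⟨c', hc', e10⟩ := conj_na (F := F) _ _ w_na.2.1 w
  rw [show C.G.nU na * (xr (ri 11) r * xr (ri 10) w) * (C.G.nU na)⁻¹ =
    C.G.nU na * xr (ri 11) r * (C.G.nU na)⁻¹ * (C.G.nU na * xr (ri 10) w * (C.G.nU na)⁻¹) by group,
    e9, e11, e10] at h'
  have hw : c' * w = 0 := by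
    refine eq_zero_of_mem_Uex nb ?_
    rw [simp_nb, eq_inv_mul_of_mul_eq h'.symm]
    exact mul_mem (inv_mem (xr_ne_simp_mem_Uex nb (by decide +kernel) (by rw [simp_nb]; decide +kernel) _))
      (xr_ne_simp_mem_Uex nb (by decide +kernel) (by rw [simp_nb]; decide +kernel) _)
  rw [hw, xr_zero, mul_one] at h'
  have := (level_one (b := 0) (x11_mem_U2 (c * r)) (by rw [h', xr_zero, one_mul])).1
  exact (mul_eq_zero.1 this).resolve_left hc0

theorem eq_zero_of_fixed {M : Matrix (Fin 2) (Fin 2) F} (hd : (M - 1).det ≠ 0) {p q : F}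
    (h0 : M 0 0 * p + M 0 1 * q = p) (h1 : M 1 0 * p + M 1 1 * q = q) : p = 0 ∧ q = 0 := by
  have hv : (M - 1) *ᵥ ![p, q] = 0 := by
    funext i
    fin_cases i <;> simp [Matrix.mulVec, dotProduct, Fin.sum_univ_two]
    · linear_combination h0
    · linear_combination h1
  have := Matrix.eq_zero_of_mulVec_eq_zero hd hv
  exact ⟨by simpa using congrFun this 0, by simpa using congrFun this 1⟩

/-- fixed-point-free elements of the Levi subgroup -/
theorem eq_one_of_commute {M : GL (Fin 2) F} (hM : FixFree M.1) {u : GL chevG2.Idx F} (hu : u ∈ UP F)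
    (hc : gl M * u * (gl M)⁻¹ = u) : u = 1 := by
  obtain ⟨-, hd1, hd2, hd3⟩ := hM
  obtain ⟨p, q, v, hv, rfl⟩ := mem_UP hu
  obtain ⟨w, hw, e⟩ := (act_all M).2.2 p q
  rw [show gl M * (xr (ri 8) p * xr (ri 7) q * v) * (gl M)⁻¹ =
    gl M * (xr (ri 8) p * xr (ri 7) q) * (gl M)⁻¹ * (gl M * v * (gl M)⁻¹) by group, e, mul_assoc] at hc
  obtain ⟨ep, eq⟩ := level_one_eq (mul_mem hw ((act_all M).conj_U2 hv)) hv hc
  obtain ⟨rfl, rfl⟩ := eq_zero_of_fixed hd2 ep eq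
  simp only [mul_zero, add_zero, xr_zero, one_mul, mul_one] at e hc ⊢
  rw [mul_inv_cancel] at e
  rw [← e, one_mul] at hc
  obtain ⟨z, v3, hv3, rfl⟩ := mem_U2 hv
  obtain ⟨w3, hw3, e9⟩ := (act_all M).2.1 z
  rw [show gl M * (xr (ri 9) z * v3) * (gl M)⁻¹ =
    gl M * xr (ri 9) z * (gl M)⁻¹ * (gl M * v3 * (gl M)⁻¹) by group, e9, mul_assoc] at hc
  have hz : z = 0 := by
    have hh : xr (ri 9) (-z + M.1.det * z) = v3 * (w3 * (gl M * v3 * (gl M)⁻¹))⁻¹ := by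
      rw [xr_add, ← xr_inv]
      calc (xr (ri 9) z)⁻¹ * xr (ri 9) (M.1.det * z)
          = (xr (ri 9) z)⁻¹ * (xr (ri 9) (M.1.det * z) * (w3 * (gl M * v3 * (gl M)⁻¹))) *
              (w3 * (gl M * v3 * (gl M)⁻¹))⁻¹ := by group
        _ = _ := by rw [hc]; group
    have := level_two (hh ▸ mul_mem hv3 (inv_mem (mul_mem hw3 ((act_all M).conj_U3 hv3))))
    have h' : (M.1.det - 1) * z = 0 := by linear_combination this
    exact (mul_eq_zero.1 h').resolve_left (sub_ne_zero.2 hd1)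
  subst hz
  simp only [mul_zero, xr_zero, one_mul, mul_inv_cancel, mul_one] at e9 hc ⊢
  rw [← e9, one_mul] at hc
  obtain ⟨r, w', rfl⟩ := mem_U3 hv3
  rw [(act_all M).1] at hc
  have hdiff : u3 (-r + M.1.det * (M.1 0 0 * r + M.1 0 1 * w'))
      (-w' + M.1.det * (M.1 1 0 * r + M.1 1 1 * w')) = 1 := by
    rw [← u3_mul, hc, u3_mul, neg_add_cancel, neg_add_cancel, u3, xr_zero, xr_zero, one_mul]
  obtain ⟨a, b⟩ := u3_eq_one hdiff
  obtain ⟨rfl, rfl⟩ := eq_zero_of_fixed hd3 (p := r) (q := w')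
    (by simp only [Matrix.smul_apply, smul_eq_mul]; linear_combination a)
    (by simp only [Matrix.smul_apply, smul_eq_mul]; linear_combination b)
  rw [u3, xr_zero, xr_zero, one_mul]

end CfsgLib.Lie.G2Cover
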